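import Mathlib

/-!
Arithmetic for the normalisers of the Sylow subgroups of the five large prime orders in a group of Janko-four type.
-/

set_option autoImplicit false
set_option maxRecDepth 100000
set_option Elab.async false

namespace Cfsg.Agent.Spor.JFour.Big

/-- The order of the group. -/
def N0 : ℕ := 2 ^ 21 * 3 ^ 3 * 5 * 7 * 11 ^ 3 * 23 * 29 * 31 * 37 * 43

/-- The prime factors that may divide the centraliser of an element of large prime order. -/
def facs : List ℕ := [11, 11, 11, 23, 29, 31, 37, 43]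

/-- The five large primes. -/
def bigs : List ℕ := [23, 29, 31, 37, 43]

/-- All divisors of a product of primes. -/
def divs : List ℕ → List ℕ
  | [] => [1]
  | q :: l => divs l ++ (divs l).map (q * ·)

theorem mem_divs : ∀ {l : List ℕ}, (∀ q ∈ l, q.Prime) → ∀ {d : ℕ}, d ∣ l.prod → d ∈ divs l
  | [], _, d, hd => by simpa [divs] using Nat.dvd_one.1 (by simpa using hd)
  | q :: l, hl, d, hd => by
    have hq := hl q List.mem_cons_self
    have hl' : ∀ r ∈ l, r.Prime := fun r hr => hl r (List.mem_cons_of_mem _ hr)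
    rw [List.prod_cons] at hd
    rw [divs, List.mem_append, List.mem_map]
    by_cases hqd : q ∣ d
    · obtain ⟨e, rfl⟩ := hqd
      exact Or.inr ⟨e, mem_divs hl' ((Nat.mul_dvd_mul_iff_left hq.pos).1 hd), rfl⟩
    · exact Or.inl (mem_divs hl' (((hq.coprime_iff_not_dvd).2 hqd).symm.dvd_of_dvd_mul_left hd))

theorem facs_prime : ∀ q ∈ facs, q.Prime := by
  simp only [facs, List.mem_cons, List.not_mem_nil, or_false, forall_eq_or_imp, forall_eq]
  norm_num

/-- The conditions on the order `c` of the centraliser and the index `e` in the normaliser. -/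
def admissible (p c e : ℕ) : Bool :=
  Nat.beq ((p - 1) % e) 0 && (Nat.blt 1 e && (Nat.beq (c % p) 0 && (Nat.beq (N0 % (c * e)) 0 &&
    (Nat.beq (N0 / (c * e) % p) 1 && ((!(Nat.beq p 23) || Nat.beq (e % 11) 0) &&
      (!(Nat.beq p 31) || Nat.beq (e % 5) 0))))))

/-- The possible pairs. -/
def table : ℕ → List (ℕ × ℕ)
  | 23 => [(23, 22), (20677, 11), (1061197, 22), (86273, 11), (4427753, 22), (3980549947, 11)]
  | 29 => [(29, 28), (899, 14), (1247, 2), (11803, 28), (315491, 7), (365893, 14), (507529, 2), (107582431, 28), (128404837, 7), (27521087, 4), (43786049417, 28)]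
  | 31 => [(31, 10), (1430309, 15), (341, 15), (227447, 30), (8415539, 5), (5967841, 10), (65646251, 15), (43786049417, 30)]
  | 37 => [(37, 12), (1591, 2), (24679, 12), (46139, 9), (49321, 12), (1061197, 2), (32897107, 12), (402523, 12), (3192101, 9), (5582819, 12), (1526657, 2), (44273053, 9), (1018280219, 2)]
  | 43 => [(43, 14), (1247, 42), (1333, 6), (49321, 42), (119669, 6), (3709739, 21), (4427753, 42)]
  | _ => []

/-- The pairs that survive. -/
def final : List (ℕ × ℕ × ℕ) := [(23, 23, 22), (29, 29, 28), (31, 31, 10), (31, 341, 15), (37, 37, 12), (43, 43, 14)]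

theorem table_complete : (bigs.all fun p => (divs facs).all fun c => (List.range p).all fun e =>
    !admissible p c e || (table p).contains (c, e)) = true := by decide +kernel

theorem table_pruned : (bigs.all fun p => (table p).all fun o => final.contains (p, o.1, o.2) ||
    bigs.any fun q => !(Nat.beq q p) && (Nat.beq (o.1 % q) 0 && (table q).all fun u =>
      !(Nat.beq (u.1 % p) 0 && Nat.beq (o.1 * o.2) (u.1 * u.2)))) = true := by decide +kernel

theorem table_of {p c e : ℕ} (hp : p ∈ bigs) (hc : c ∣ facs.prod) (he1 : 1 < e) (hed : e ∣ p - 1) (hpc : p ∣ c)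
    (hdiv : c * e ∣ N0) (hn : N0 / (c * e) % p = 1) (h23 : p = 23 → 11 ∣ e) (h31 : p = 31 → 5 ∣ e) :
    (c, e) ∈ table p := by
  have hp1 : 0 < p - 1 := by
    have : ∀ x ∈ bigs, 0 < x - 1 := by decide
    exact this p hp
  have he : e < p := by have := Nat.le_of_dvd hp1 hed; omega
  have h := table_complete
  simp only [List.all_eq_true, List.mem_range, Bool.or_eq_true, List.contains_iff_mem] at h
  rcases h p hp c (mem_divs facs_prime hc) e he with h | h
  · rw [Bool.not_eq_true'] at h
    refine absurd h ?_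
    simp only [admissible, Bool.not_eq_false, Bool.and_eq_true, Bool.or_eq_true, Nat.beq_eq, Nat.blt_eq,
      Bool.not_eq_true']
    refine ⟨Nat.mod_eq_zero_of_dvd hed, he1, Nat.mod_eq_zero_of_dvd hpc, Nat.mod_eq_zero_of_dvd hdiv, hn,
      ?_, ?_⟩
    · by_cases h' : p = 23
      · exact Or.inr (Nat.mod_eq_zero_of_dvd (h23 h'))
      · exact Or.inl (by rw [← Bool.not_eq_true]; simpa using h')
    · by_cases h' : p = 31
      · exact Or.inr (Nat.mod_eq_zero_of_dvd (h31 h'))
      · exact Or.inl (by rw [← Bool.not_eq_true]; simpa using h')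
  · exact h

theorem final_of (co ei : ℕ → ℕ) (ht : ∀ p ∈ bigs, (co p, ei p) ∈ table p)
    (hs : ∀ p ∈ bigs, ∀ q ∈ bigs, q ≠ p → q ∣ co p → p ∣ co q ∧ co p * ei p = co q * ei q) :
    ∀ p ∈ bigs, (p, co p, ei p) ∈ final := by
  intro p hp
  have h := table_pruned
  simp only [List.all_eq_true, Bool.or_eq_true, List.contains_iff_mem, List.any_eq_true, Bool.and_eq_true,
    Bool.not_eq_true'] at h
  rcases h p hp _ (ht p hp) with h | ⟨q, hq, hne, hqc, hbad⟩
  · exact h
  · obtain ⟨h1, h2⟩ := hs p hp q hq (fun e => by simp [e] at hne) (Nat.dvd_of_mod_eq_zero (Nat.eq_of_beq_eq_true hqc))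
    have := hbad _ (ht q hq)
    simp [Nat.mod_eq_zero_of_dvd h1, h2] at this

theorem eleven_count : ∀ j < 22, ∀ k < 3, 2 ^ j * 11 ^ k % 31 = 1 → k = 0 := by decide +kernel

end Cfsg.Agent.Spor.JFour.Big
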