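import Cfsg.Agent.Lib.Spor.JFourType.BigPrimes.Arith

/-!
A subgroup of prime order is central in a group of order coprime to one less than the prime, when no prime
power dividing the order of the group is congruent to one modulo the prime.
-/

set_option autoImplicit false
set_option linter.style.haveILetI false

namespace Cfsg.Agent.Spor.JFour.Big

variable {C : Type*} [Group C] [Finite C] {q r : ℕ} [Fact q.Prime]

/-- An element of prime order centralises every group of prime power order that it normalises, when no relevant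
power of the prime is congruent to one. -/
theorem fixed_all (hr : r.Prime) (hrq : r ≠ q) {a : C} (ha : orderOf a = q) {R : Subgroup C} {k : ℕ}
    (hR : Nat.card ↥R = r ^ k) (hn : a ∈ Subgroup.normalizer (R : Set C))
    (hk : ∀ i ≤ k, r ^ i % q = 1 → i = 0) : ∀ x ∈ R, a * x = x * a := by
  have hq : q.Prime := Fact.out
  have hQN : Subgroup.zpowers a ≤ Subgroup.normalizer (R : Set C) := by
    rwa [Subgroup.zpowers_le]
  letI : MulAction ↥(Subgroup.zpowers a) ↥R :=
    { smul := fun g x => ⟨(g : C) * x * (g : C)⁻¹, (Subgroup.mem_normalizer_iff.1 (hQN g.2) _).1 x.2⟩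
      one_smul := fun x => Subtype.ext (show ((1 : ↥(Subgroup.zpowers a)) : C) * x * _⁻¹ = x by simp)
      mul_smul := fun g h x => Subtype.ext (show ((g * h : ↥(Subgroup.zpowers a)) : C) * x * _⁻¹ =
        (g : C) * ((h : C) * x * (h : C)⁻¹) * (g : C)⁻¹ by push_cast; group) }
  have hP : IsPGroup q ↥(Subgroup.zpowers a) := IsPGroup.of_card (n := 1) (by rw [Nat.card_zpowers, ha, pow_one])
  have hmod := hP.card_modEq_card_fixedPoints ↥R
  set F : Subgroup C := Subgroup.centralizer ({a} : Set C) ⊓ R with hF
  have e : Nat.card ↑(MulAction.fixedPoints ↥(Subgroup.zpowers a) ↥R) = Nat.card ↥F := by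
    refine Nat.card_congr
      { toFun := fun x => ⟨(x.1 : C), ?_, x.1.2⟩
        invFun := fun x => ⟨⟨x.1, x.2.2⟩, fun g => ?_⟩
        left_inv := fun x => rfl
        right_inv := fun x => rfl }
    · refine Subgroup.mem_centralizer_singleton_iff.2 ?_
      have h := congrArg Subtype.val (x.2 ⟨a, Subgroup.mem_zpowers a⟩)
      exact (mul_inv_eq_iff_eq_mul.1 h).symm
    · obtain ⟨i, hi⟩ := Subgroup.mem_zpowers_iff.1 g.2
      have hc : Commute (x : C) a := Subgroup.mem_centralizer_singleton_iff.1 x.2.1
      refine Subtype.ext (show (g : C) * x * (g : C)⁻¹ = x from ?_)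
      rw [← hi, ← (hc.zpow_right i).eq, mul_inv_cancel_right]
  rw [e, hR] at hmod
  obtain ⟨j, hj, hFc⟩ := (Nat.dvd_prime_pow hr).1 (hR ▸ Subgroup.card_dvd_of_le (inf_le_right : F ≤ R))
  rw [hFc] at hmod
  have hco : Nat.gcd q (r ^ j) = 1 := Nat.Coprime.pow_right _ ((Nat.coprime_primes hq hr).2 (Ne.symm hrq))
  have h1 : r ^ (k - j) ≡ 1 [MOD q] := by
    refine Nat.ModEq.cancel_left_of_coprime hco ?_
    rw [← pow_add, Nat.add_sub_of_le hj, mul_one]
    exact hmod
  have hkj : k - j = 0 := hk _ (Nat.sub_le _ _) (by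
    rw [Nat.ModEq, Nat.one_mod_eq_one.2 hq.one_lt.ne'] at h1; exact h1)
  have hFR : F = R := Subgroup.eq_of_le_of_card_ge inf_le_right (by rw [hR, hFc, show k = j by omega])
  intro x hx
  rw [← hFR] at hx
  exact (Subgroup.mem_centralizer_singleton_iff.1 hx.1).symm

/-- The normaliser of a subgroup of prime order centralises it. -/
theorem normalizer_le_centralizer {U : Subgroup C} (hU : Nat.card ↥U = q)
    (hcop : Nat.Coprime (Nat.card C) (q - 1)) :
    Subgroup.normalizer (U : Set C) ≤ Subgroup.centralizer (U : Set C) := by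
  haveI : IsCyclic ↥U := isCyclic_of_prime_card hU
  set f := U.normalizerMonoidHom
  have h1 : Nat.card ↥f.range ∣ Nat.card C :=
    (Subgroup.card_range_dvd f).trans (Subgroup.card_subgroup_dvd_card _)
  have h2 : Nat.card ↥f.range ∣ q - 1 := by
    refine (Subgroup.card_subgroup_dvd_card _).trans ?_
    rw [IsCyclic.card_mulAut, hU, Nat.totient_prime Fact.out]
  have h3 : Nat.card ↥f.range = 1 := Nat.eq_one_of_dvd_coprimes hcop h1 h2
  have h4 : f.ker = ⊤ := f.range_eq_bot_iff.1 (Subgroup.card_eq_one.1 h3) |> fun e => by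
    rw [e]; exact MonoidHom.ker_one
  intro g hg
  have : (⟨g, hg⟩ : ↥(Subgroup.normalizer (U : Set C))) ∈ f.ker := h4 ▸ Subgroup.mem_top _
  rwa [Subgroup.normalizerMonoidHom_ker, Subgroup.mem_subgroupOf] at this

/-- The subgroup of prime order is central. -/
theorem central {U : Subgroup C} (hU : Nat.card ↥U = q) (hsq : ¬ q ^ 2 ∣ Nat.card C)
    (hcop : Nat.Coprime (Nat.card C) (q - 1))
    (hpow : ∀ r : ℕ, r.Prime → r ≠ q → ∀ i : ℕ, r ^ i ∣ Nat.card C → r ^ i % q = 1 → i = 0) :
    U ≤ Subgroup.center C := by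
  classical
  have hq : q.Prime := Fact.out
  have hqC : q ∣ Nat.card C := hU ▸ U.card_subgroup_dvd_card
  have hf : (Nat.card C).factorization q = 1 := by
    have h1 := (Nat.Prime.pow_dvd_iff_le_factorization (k := 1) hq Nat.card_pos.ne').1 (by simpa using hqC)
    have h2 : ¬ 2 ≤ (Nat.card C).factorization q := fun h =>
      hsq ((Nat.Prime.pow_dvd_iff_le_factorization hq Nat.card_pos.ne').2 h)
    omega
  let S : Sylow q C := Sylow.ofCard U (by rw [hU, hf, pow_one])
  have hS : Subgroup.normalizer ((S : Subgroup C) : Set C) ≤ Subgroup.centralizer ((S : Subgroup C) : Set C) := by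
    simpa [S] using normalizer_le_centralizer hU hcop
  have hK := MonoidHom.ker_transferSylow_isComplement' S hS
  set K := (MonoidHom.transferSylow S hS).ker with hKdef
  have hKi : K.index = q := by
    rw [hK.symm.index_eq_card]; simpa [S] using hU
  have hKc : Nat.card ↥K * q = Nat.card C := by rw [← hKi]; exact K.card_mul_index
  have hall : ∀ r : ℕ, r.Prime → r ≠ q →
      r ^ (Nat.card C).factorization r ∣ Nat.card ↥(Subgroup.centralizer (U : Set C)) := by
    intro r hr hrq
    haveI : Fact r.Prime := ⟨hr⟩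
    obtain ⟨R0⟩ : Nonempty (Sylow r ↥K) := inferInstance
    set R := (R0 : Subgroup ↥K).map K.subtype with hRdef
    have hRc : Nat.card ↥R = r ^ (Nat.card ↥K).factorization r := by
      rw [hRdef, Subgroup.card_map_of_injective K.subtype_injective, R0.card_eq_multiplicity]
    have hKr : (Nat.card C).factorization r = (Nat.card ↥K).factorization r := by
      rw [← hKc, Nat.factorization_mul Nat.card_pos.ne' hq.ne_zero, Finsupp.add_apply, hq.factorization,
        Finsupp.single_eq_of_ne hrq, add_zero]
    set N := Subgroup.normalizer (R : Set C) with hN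
    have hsup : N ⊔ K = ⊤ := Sylow.normalizer_sup_eq_top R0
    have hqN : q ∣ Nat.card ↥N := by
      rw [← hKi, ← K.relIndex_top_right, ← hsup, Subgroup.relIndex_sup_right]
      exact K.relIndex_dvd_card N
    obtain ⟨a, ha⟩ := exists_prime_orderOf_dvd_card' q hqN
    rw [← Subgroup.orderOf_coe] at ha
    have hcomm := fixed_all hr hrq ha hRc a.2 (fun i hi => hpow r hr hrq i
      ((pow_dvd_pow r (hKr ▸ hi)).trans (Nat.ordProj_dvd _ _)))
    obtain ⟨h, hh⟩ := MulAction.exists_smul_eq C S (Sylow.ofCard (Subgroup.zpowers (a : C))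
      (by rw [Nat.card_zpowers, ha, hf, pow_one]))
    have hmap : U.map (MulAut.conj h).toMonoidHom = Subgroup.zpowers (a : C) := by
      have h2 := congrArg (fun T : Sylow q C => (T : Subgroup C)) hh
      simp only [Sylow.coe_ofCard] at h2
      rw [← h2]
      rfl
    have hR' : R.map (MulAut.conj h⁻¹).toMonoidHom ≤ Subgroup.centralizer (U : Set C) := by
      rintro _ ⟨x, hx, rfl⟩
      rw [Subgroup.mem_centralizer_iff]
      intro u hu
      obtain ⟨i, hi⟩ := Subgroup.mem_zpowers_iff.1 (hmap ▸ Subgroup.mem_map_of_mem _ hu :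
        (MulAut.conj h) u ∈ Subgroup.zpowers (a : C))
      have hc : Commute ((MulAut.conj h) u) x := by
        rw [← hi]; exact (show Commute (a : C) x from hcomm x hx).zpow_left i
      have := hc.map (MulAut.conj h⁻¹)
      simpa [mul_assoc] using this.eq
    have hinj : Function.Injective (MulAut.conj h⁻¹).toMonoidHom := (MulAut.conj h⁻¹).injective
    rw [hKr, ← hRc, ← Subgroup.card_map_of_injective hinj]
    exact Subgroup.card_dvd_of_le hR'
  have htop : Subgroup.centralizer (U : Set C) = ⊤ := by
    refine Subgroup.eq_top_of_card_eq _ (Nat.dvd_antisymm (Subgroup.card_subgroup_dvd_card _) ?_)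
    refine (Nat.factorization_le_iff_dvd Nat.card_pos.ne' Nat.card_pos.ne').1 fun r => ?_
    by_cases hr : r.Prime
    · refine (hr.pow_dvd_iff_le_factorization Nat.card_pos.ne').1 ?_
      by_cases hrq : r = q
      · haveI : IsCyclic ↥U := isCyclic_of_prime_card hU
        rw [hrq, hf, pow_one, ← hU]
        exact Subgroup.card_dvd_of_le (fun x hx => Subgroup.mem_centralizer_iff.2 fun u hu =>
          congrArg Subtype.val ((IsCyclic.isMulCommutative (α := ↥U)).is_comm.comm ⟨u, hu⟩ ⟨x, hx⟩))
      · exact hall r hr hrq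
    · simp [Nat.factorization_eq_zero_of_not_prime _ hr]
  intro u hu
  refine Subgroup.mem_center_iff.2 fun g => ?_
  have : g ∈ Subgroup.centralizer (U : Set C) := htop ▸ Subgroup.mem_top g
  exact (Subgroup.mem_centralizer_iff.1 this u hu).symm

/-- A central subgroup of prime order contains every element of that order. -/
theorem mem_of_orderOf {U : Subgroup C} (hU : Nat.card ↥U = q) (hsq : ¬ q ^ 2 ∣ Nat.card C)
    (hn : Nat.card (Sylow q C) = 1) {x : C} (hx : orderOf x = q) : x ∈ U := by
  have hf : (Nat.card C).factorization q = 1 := by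
    have h1 := (Nat.Prime.pow_dvd_iff_le_factorization (k := 1) Fact.out Nat.card_pos.ne').1
      (by simpa using hU ▸ U.card_subgroup_dvd_card)
    have h2 : ¬ 2 ≤ (Nat.card C).factorization q := fun h =>
      hsq ((Nat.Prime.pow_dvd_iff_le_factorization Fact.out Nat.card_pos.ne').2 h)
    omega
  have : Subsingleton (Sylow q C) := (Nat.card_eq_one_iff_unique.1 hn).1
  have e : Sylow.ofCard U (by rw [hU, hf, pow_one]) =
      (Sylow.ofCard (Subgroup.zpowers x) (by rw [Nat.card_zpowers, hx, hf, pow_one]) : Sylow q C) :=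
    Subsingleton.elim _ _
  have := congrArg (fun T : Sylow q C => (T : Subgroup C)) e
  simp only [Sylow.coe_ofCard] at this
  rw [this]
  exact Subgroup.mem_zpowers x

end Cfsg.Agent.Spor.JFour.Big
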