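import Cfsg.Agent.Lib.Spor.JFourType.BigPrimes.Shared
import Cfsg.Agent.Lib.Spor.JFourType.Mathieu.Final
import Cfsg.Agent.Lib.Spor.JFourType.OrbitExcl
import Cfsg.Agent.Lib.Spor.JFourType.Penta.Split
import Cfsg.Agent.Lib.Spor.Golay.M22Idx

/-!
Elements of order 23 and 31 with elements of order 11 and 5 acting on the groups they generate.
-/

set_option autoImplicit false
set_option maxRecDepth 100000
set_option Elab.async false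
set_option linter.style.haveILetI false

open Cfsg Cfsg.Agent.Spor.Golay

namespace Cfsg.Agent.Spor.JFour.Big

open Psl23Max in
theorem aff_facts : ∃ a g : ↥Cfsg.M24, orderOf a = 23 ∧ g ^ 11 = 1 ∧ g * a * g⁻¹ = a ^ 2 := by
  have htM : tr ∈ Cfsg.M24 := permOf_mem_M24 (aff_checks.1 0 (by norm_num) 1 (by norm_num))
  have hsM : Psl23Max.sq ∈ Cfsg.M24 := permOf_mem_M24 (aff_checks.1 1 (by norm_num) 0 (by norm_num))
  refine ⟨⟨tr, htM⟩, ⟨Psl23Max.sq, hsM⟩, by rw [Subgroup.orderOf_mk, orderOf_tr], Subtype.ext ?_,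
    mul_inv_eq_iff_eq_mul.2 (Subtype.ext ?_)⟩
  · show Psl23Max.sq ^ 11 = 1
    rw [← M22Idx.orderOf_sq, pow_orderOf_eq_one]
  · show Psl23Max.sq * tr = tr ^ 2 * Psl23Max.sq
    have v0 : valid (affP 0 1) = true := aff_valid (by norm_num) (by norm_num)
    have v1 : valid (affP 1 0) = true := aff_valid (by norm_num) (by norm_num)
    rw [pow_two, tr, Psl23Max.sq, ← permOf_comp v1 v0, ← permOf_comp v0 v0, ← permOf_comp (valid_comp v0 v0) v1]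
    exact congrArg permOf (by decide +kernel)

/-- The matrices. -/
def mats : List (Matrix (Fin 5) (Fin 5) (ZMod 2)) :=
  [!![0, 0, 0, 0, 1; 1, 0, 0, 0, 0; 0, 1, 0, 0, 1; 0, 0, 1, 0, 0; 0, 0, 0, 1, 0],
   !![0, 0, 0, 1, 0; 0, 0, 0, 0, 1; 1, 0, 0, 1, 0; 0, 1, 0, 0, 1; 0, 0, 1, 0, 0],
   !![0, 1, 0, 0, 1; 0, 0, 1, 0, 0; 0, 1, 0, 1, 1; 0, 0, 1, 0, 1; 1, 0, 0, 1, 0],
   !![1, 0, 1, 1, 0; 0, 1, 0, 1, 1; 1, 0, 0, 1, 1; 1, 1, 0, 0, 1; 0, 1, 1, 0, 0],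
   !![1, 1, 1, 0, 0; 1, 1, 1, 1, 0; 0, 0, 0, 1, 1; 1, 0, 0, 0, 1; 1, 1, 0, 0, 0],
   !![1, 0, 0, 0, 1; 0, 0, 0, 1, 0; 0, 1, 0, 0, 1; 0, 0, 0, 1, 1; 0, 0, 1, 0, 0],
   !![1, 0, 1, 0, 1; 0, 0, 0, 1, 1; 0, 0, 1, 1, 0; 0, 0, 1, 1, 1; 0, 1, 0, 0, 1],
   !![1, 1, 0, 1, 0; 0, 1, 1, 1, 0; 0, 0, 0, 0, 1; 0, 1, 0, 0, 0; 0, 1, 0, 1, 0]]

/-- One of them. -/
def mat (i : ℕ) : Matrix (Fin 5) (Fin 5) (ZMod 2) := mats.getD i 1

theorem mat_checks : mat 0 * mat 0 = mat 1 ∧ mat 1 * mat 1 = mat 2 ∧ mat 2 * mat 2 = mat 3 ∧ mat 3 * mat 3 = mat 4 ∧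
    mat 4 * mat 4 = mat 0 ∧ mat 5 * mat 5 = mat 6 ∧ mat 6 * mat 6 = mat 7 ∧ mat 7 * mat 5 = 1 ∧
    mat 5 * mat 0 = mat 1 * mat 5 ∧ mat 0 ≠ 1 ∧ (mat 0).det = 1 ∧ (mat 5).det = 1 := by
  decide +kernel

theorem five_facts_of {m0 m1 m2 m3 m4 m5 m6 m7 : Matrix (Fin 5) (Fin 5) (ZMod 2)}
    (hm : m0 * m0 = m1 ∧ m1 * m1 = m2 ∧ m2 * m2 = m3 ∧ m3 * m3 = m4 ∧ m4 * m4 = m0 ∧ m5 * m5 = m6 ∧ m6 * m6 = m7 ∧
      m7 * m5 = 1 ∧ m5 * m0 = m1 * m5 ∧ m0 ≠ 1 ∧ m0.det = 1 ∧ m5.det = 1) :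
    ∃ a g : Matrix.SpecialLinearGroup (Fin 5) (ZMod 2), orderOf a = 31 ∧ g ^ 5 = 1 ∧ g * a * g⁻¹ = a ^ 2 := by
  obtain ⟨h1, h2, h3, h4, h5, h6, h7, h8, h9, hne, hd0, hd5⟩ := hm
  haveI : Fact (Nat.Prime 31) := ⟨by norm_num⟩
  have p32 : m0 ^ 32 = m0 := by
    have h : (((((m0 ^ 2) ^ 2) ^ 2) ^ 2) ^ 2) = m0 := by simp only [pow_two, h1, h2, h3, h4, h5]
    rw [← pow_mul, ← pow_mul, ← pow_mul, ← pow_mul] at h
    exact h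
  have p5 : m5 ^ 5 = 1 := by
    have h : (m5 ^ 2) ^ 2 * m5 = 1 := by simp only [pow_two, h6, h7, h8]
    rw [← pow_mul, ← pow_succ] at h
    exact h
  have p2 : m5 * m0 = m0 ^ 2 * m5 := by rw [pow_two, h1, h9]
  obtain ⟨a, ha'⟩ : ∃ a : Matrix.SpecialLinearGroup (Fin 5) (ZMod 2), (a : Matrix (Fin 5) (Fin 5) (ZMod 2)) = m0 :=
    ⟨⟨m0, hd0⟩, rfl⟩
  obtain ⟨g, hg'⟩ : ∃ g : Matrix.SpecialLinearGroup (Fin 5) (ZMod 2), (g : Matrix (Fin 5) (Fin 5) (ZMod 2)) = m5 :=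
    ⟨⟨m5, hd5⟩, rfl⟩
  have e1 : a ^ 32 = a := Matrix.SpecialLinearGroup.ext _ _ fun i j => by
    rw [Matrix.SpecialLinearGroup.coe_pow, ha', p32]
  have e2 : g ^ 5 = 1 := Matrix.SpecialLinearGroup.ext _ _ fun i j => by
    rw [Matrix.SpecialLinearGroup.coe_pow, Matrix.SpecialLinearGroup.coe_one, hg', p5]
  have e3 : g * a = a ^ 2 * g := Matrix.SpecialLinearGroup.ext _ _ fun i j => by
    rw [Matrix.SpecialLinearGroup.coe_mul, Matrix.SpecialLinearGroup.coe_mul, Matrix.SpecialLinearGroup.coe_pow,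
      hg', ha', p2]
  refine ⟨a, g, ?_, e2, ?_⟩
  · refine orderOf_eq_prime ?_ ?_
    · have h := pow_succ' a 31
      rw [show 31 + 1 = 32 from rfl, e1] at h
      exact (mul_eq_left.1 h.symm)
    · intro e
      rw [e, Matrix.SpecialLinearGroup.coe_one] at ha'
      exact hne ha'.symm
  · rw [e3, mul_inv_cancel_right]

theorem five_facts : ∃ a g : Matrix.SpecialLinearGroup (Fin 5) (ZMod 2),
    orderOf a = 31 ∧ g ^ 5 = 1 ∧ g * a * g⁻¹ = a ^ 2 :=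
  five_facts_of mat_checks

end Cfsg.Agent.Spor.JFour.Big

namespace Cfsg.Agent.Spor.JFour.Frame

variable {G : Type*} [Group G] {z : G} {P : Subgroup G} {S : Setting z P} (Fr : Frame S) [Finite G] [IsSimpleGroup G]

include Fr in
theorem exists_pair23 (hG : ¬ IsMulCommutative G) : ∃ a g : G, orderOf a = 23 ∧ g ^ 11 = 1 ∧ g * a * g⁻¹ = a ^ 2 := by
  obtain ⟨f, K, -, -, -, -, e, -⟩ := Fr.exists_M24 (Fr.duadic hG)
  obtain ⟨a, g, ha, hg, h⟩ := Big.aff_facts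
  refine ⟨(e.symm a : G), (e.symm g : G), by rw [Subgroup.orderOf_coe, MulEquiv.orderOf_eq, ha], ?_, ?_⟩
  · rw [← SubgroupClass.coe_pow, ← map_pow, hg, map_one, OneMemClass.coe_one]
  · rw [← Subgroup.coe_inv, ← Subgroup.coe_mul, ← Subgroup.coe_mul, ← map_inv, ← map_mul, ← map_mul, h, map_pow,
      SubgroupClass.coe_pow]

include Fr in
theorem exists_pair31 (hG : ¬ IsMulCommutative G) : ∃ a g : G, orderOf a = 31 ∧ g ^ 5 = 1 ∧ g * a * g⁻¹ = a ^ 2 := by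
  obtain ⟨B⟩ := Fr.exists_pen hG
  obtain ⟨K, -, -, -, ⟨e⟩⟩ := B.exists_complement
  obtain ⟨a, g, ha, hg, h⟩ := Big.five_facts
  refine ⟨(e.symm a : G), (e.symm g : G), by rw [Subgroup.orderOf_coe, MulEquiv.orderOf_eq, ha], ?_, ?_⟩
  · rw [← SubgroupClass.coe_pow, ← map_pow, hg, map_one, OneMemClass.coe_one]
  · rw [← Subgroup.coe_inv, ← Subgroup.coe_mul, ← Subgroup.coe_mul, ← map_inv, ← map_mul, ← map_mul, h, map_pow,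
      SubgroupClass.coe_pow]

end Cfsg.Agent.Spor.JFour.Frame
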