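import Cfsg.Agent.Lib.Spor.JFourType.BigPrimes.Small
import Cfsg.Agent.Lib.Spor.JFourType.BigPrimes.Witness

/-!
The orders of the centraliser and the normaliser of a subgroup of large prime order.
-/

set_option autoImplicit false
set_option maxRecDepth 100000
set_option linter.style.haveILetI false

open Cfsg

namespace Cfsg.Agent.Spor.JFour.Big

variable {G : Type*} [Group G]

theorem centralizer_zpowers (x : G) :
    Subgroup.centralizer ((Subgroup.zpowers x : Subgroup G) : Set G) = Subgroup.centralizer ({x} : Set G) := by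
  rw [Subgroup.zpowers_eq_closure, Subgroup.centralizer_closure]

theorem map_conj_centralizer (U : Subgroup G) (g : G) :
    (Subgroup.centralizer (U : Set G)).map (MulAut.conj g).toMonoidHom =
      Subgroup.centralizer ((U.map (MulAut.conj g).toMonoidHom : Subgroup G) : Set G) := by
  ext x
  rw [Subgroup.mem_map, Subgroup.mem_centralizer_iff]
  constructor
  · rintro ⟨y, hy, rfl⟩ _ ⟨w, hw, rfl⟩
    rw [← map_mul, Subgroup.mem_centralizer_iff.1 hy w hw, map_mul]
  · intro hx
    refine ⟨g⁻¹ * x * g, Subgroup.mem_centralizer_iff.2 fun w hw => ?_, by simp [mul_assoc]⟩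
    have hh := hx (g * w * g⁻¹) ⟨w, hw, rfl⟩
    calc w * (g⁻¹ * x * g) = g⁻¹ * (g * w * g⁻¹ * x) * g := by group
      _ = g⁻¹ * (x * (g * w * g⁻¹)) * g := by rw [hh]
      _ = _ := by group

variable [Finite G]

theorem factorization_big (hord : Nat.card G = N0) {p : ℕ} (hp : p ∈ bigs) : (Nat.card G).factorization p = 1 := by
  have hd : p ∣ Nat.card G ∧ ¬ p ^ 2 ∣ Nat.card G := by
    rw [hord]
    have : ∀ p ∈ bigs, p ∣ N0 ∧ ¬ p ^ 2 ∣ N0 := by decide +kernel
    exact this p hp
  have h1 := (Nat.Prime.pow_dvd_iff_le_factorization (k := 1) (bigs_prime p hp) Nat.card_pos.ne').1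
    (by simpa using hd.1)
  have h2 : ¬ 2 ≤ (Nat.card G).factorization p := fun h =>
    hd.2 ((Nat.Prime.pow_dvd_iff_le_factorization (bigs_prime p hp) Nat.card_pos.ne').2 h)
  omega

theorem exists_map_eq (hord : Nat.card G = N0) {p : ℕ} (hp : p ∈ bigs) {U V : Subgroup G} (hU : Nat.card ↥U = p)
    (hV : Nat.card ↥V = p) : ∃ g : G, U.map (MulAut.conj g).toMonoidHom = V := by
  haveI : Fact p.Prime := ⟨bigs_prime p hp⟩
  have hf := factorization_big hord hp
  obtain ⟨g, hg⟩ := MulAction.exists_smul_eq G (Sylow.ofCard U (by rw [hU, hf, pow_one]) : Sylow p G)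
    (Sylow.ofCard V (by rw [hV, hf, pow_one]))
  refine ⟨g, ?_⟩
  have h2 := congrArg (fun T : Sylow p G => (T : Subgroup G)) hg
  simp only [Sylow.coe_ofCard] at h2
  rw [← h2]
  rfl

theorem card_congr_big (hord : Nat.card G = N0) {p : ℕ} (hp : p ∈ bigs) {U V : Subgroup G} (hU : Nat.card ↥U = p)
    (hV : Nat.card ↥V = p) :
    Nat.card ↥(Subgroup.centralizer (U : Set G)) = Nat.card ↥(Subgroup.centralizer (V : Set G)) ∧
    Nat.card ↥(Subgroup.normalizer (U : Set G)) = Nat.card ↥(Subgroup.normalizer (V : Set G)) := by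
  obtain ⟨g, hg⟩ := exists_map_eq hord hp hU hV
  have hinj : Function.Injective (MulAut.conj g).toMonoidHom := (MulAut.conj g).injective
  have hC := map_conj_centralizer U g
  have hN : (Subgroup.normalizer (U : Set G)).map (MulAut.conj g).toMonoidHom =
      Subgroup.normalizer ((U.map (MulAut.conj g).toMonoidHom : Subgroup G) : Set G) :=
    Subgroup.map_equiv_normalizer_eq U (MulAut.conj g)
  rw [hg] at hC hN
  have h1 : Nat.card ↥(Subgroup.centralizer (U : Set G)) = Nat.card ↥(Subgroup.centralizer (V : Set G)) := by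
    rw [← hC, Subgroup.card_map_of_injective hinj]
  have h2 : Nat.card ↥(Subgroup.normalizer (U : Set G)) = Nat.card ↥(Subgroup.normalizer (V : Set G)) := by
    rw [← hN, Subgroup.card_map_of_injective hinj]
  exact ⟨h1, h2⟩

/-- The index of the centraliser in the normaliser. -/
noncomputable def ei (U : Subgroup G) : ℕ := Nat.card ↥U.normalizerMonoidHom.range

theorem ei_mul (U : Subgroup G) :
    ei U * Nat.card ↥(Subgroup.centralizer (U : Set G)) = Nat.card ↥(Subgroup.normalizer (U : Set G)) := by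
  rw [ei, ← Subgroup.index_ker, Subgroup.normalizerMonoidHom_ker,
    ← Nat.card_congr (Subgroup.subgroupOfEquivOfLe (Subgroup.centralizer_le_normalizer _)).toEquiv,
    Subgroup.index_mul_card]

theorem ei_dvd {p : ℕ} [Fact p.Prime] {U : Subgroup G} (hU : Nat.card ↥U = p) : ei U ∣ p - 1 := by
  haveI : IsCyclic ↥U := isCyclic_of_prime_card hU
  refine (Subgroup.card_subgroup_dvd_card _).trans ?_
  rw [IsCyclic.card_mulAut, hU, Nat.totient_prime Fact.out]

theorem dvd_ei {p r : ℕ} [Fact r.Prime] {U : Subgroup G} (_hU : Nat.card ↥U = p) {a g : G} (ha : U = Subgroup.zpowers a)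
    (hg : g ^ r = 1) (h : g * a * g⁻¹ = a ^ 2) (hne : a ≠ 1) : r ∣ ei U := by
  have hm : U.map (MulAut.conj g).toMonoidHom = U := by
    refine Subgroup.eq_of_le_of_card_ge ?_
      (Subgroup.card_map_of_injective (f := (MulAut.conj g).toMonoidHom) (MulAut.conj g).injective).ge
    rw [ha, MonoidHom.map_zpowers, Subgroup.zpowers_le]
    show g * a * g⁻¹ ∈ _
    rw [h]
    exact pow_mem (Subgroup.mem_zpowers a) 2
  have hgN : g ∈ Subgroup.normalizer (U : Set G) := Subgroup.mem_normalizer_iff.2 fun v => ⟨fun hv => by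
      rw [← hm]; exact ⟨v, hv, rfl⟩, fun hv => by
      rw [← hm] at hv
      obtain ⟨w, hw, e⟩ := hv
      have : w = v := by simpa using e
      rwa [this] at hw⟩
  set f := U.normalizerMonoidHom
  have hf : f ⟨g, hgN⟩ ≠ 1 := by
    intro e
    have hk : (⟨g, hgN⟩ : ↥(Subgroup.normalizer (U : Set G))) ∈ f.ker := e
    rw [Subgroup.normalizerMonoidHom_ker, Subgroup.mem_subgroupOf] at hk
    have hc := Subgroup.mem_centralizer_iff.1 hk a (ha ▸ Subgroup.mem_zpowers a)
    refine hne ?_
    rw [show g * a * g⁻¹ = a by rw [← hc, mul_inv_cancel_right], pow_two] at h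
    exact mul_eq_left.1 h.symm
  have ho : orderOf (f ⟨g, hgN⟩) = r := orderOf_eq_prime (by
    rw [← map_pow, show (⟨g, hgN⟩ : ↥(Subgroup.normalizer (U : Set G))) ^ r = 1 from Subtype.ext hg, map_one]) hf
  rw [← ho, ei, show orderOf (f ⟨g, hgN⟩) = orderOf (⟨f ⟨g, hgN⟩, _, rfl⟩ : ↥f.range) from
    (Subgroup.orderOf_mk _ _).symm]
  exact orderOf_dvd_natCard _

theorem one_lt_ei [IsSimpleGroup G] (hord : Nat.card G = N0) {p : ℕ} (hp : p ∈ bigs) {U : Subgroup G}
    (hU : Nat.card ↥U = p) : 1 < ei U := by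
  haveI : Fact p.Prime := ⟨bigs_prime p hp⟩
  have hpos : 0 < ei U := Nat.card_pos
  by_contra hlt
  have h1 : ei U = 1 := by omega
  have hle : Subgroup.normalizer (U : Set G) ≤ Subgroup.centralizer (U : Set G) :=
    (Subgroup.eq_of_le_of_card_ge (Subgroup.centralizer_le_normalizer _) (by rw [← ei_mul, h1, one_mul])).ge
  let Sy : Sylow p G := Sylow.ofCard U (by rw [hU, factorization_big hord hp, pow_one])
  have hS : Subgroup.normalizer ((Sy : Subgroup G) : Set G) ≤ Subgroup.centralizer ((Sy : Subgroup G) : Set G) := by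
    simpa [Sy] using hle
  have hK := MonoidHom.ker_transferSylow_isComplement' Sy hS
  have hi : (MonoidHom.transferSylow Sy hS).ker.index = p := by
    rw [hK.symm.index_eq_card]; simpa [Sy] using hU
  rcases IsSimpleGroup.eq_bot_or_eq_top_of_normal (MonoidHom.transferSylow Sy hS).ker
    (MonoidHom.normal_ker _) with h | h <;> rw [h] at hi
  · rw [Subgroup.index_bot, hord] at hi
    have : ∀ q ∈ bigs, q ≠ N0 := by decide +kernel
    exact this p hp hi.symm
  · rw [Subgroup.index_top] at hi
    exact (bigs_prime p hp).ne_one hi.symm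

theorem count_big (hord : Nat.card G = N0) {p : ℕ} (hp : p ∈ bigs) {U : Subgroup G} (hU : Nat.card ↥U = p) :
    Nat.card ↥(Subgroup.centralizer (U : Set G)) * ei U ∣ N0 ∧
      N0 / (Nat.card ↥(Subgroup.centralizer (U : Set G)) * ei U) % p = 1 := by
  haveI : Fact p.Prime := ⟨bigs_prime p hp⟩
  rw [mul_comm, ei_mul]
  set N := Subgroup.normalizer (U : Set G) with hN
  refine ⟨hord ▸ N.card_subgroup_dvd_card, ?_⟩
  have h := card_sylow_modEq_one p G
  let Sy : Sylow p G := Sylow.ofCard U (by rw [hU, factorization_big hord hp, pow_one])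
  rw [Sy.card_eq_index_normalizer] at h
  rw [← hord, ← N.index_mul_card, Nat.mul_div_cancel _ Nat.card_pos]
  rw [Nat.ModEq, Nat.one_mod_eq_one.2 (bigs_prime p hp).one_lt.ne'] at h
  exact h

end Cfsg.Agent.Spor.JFour.Big
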