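import Cfsg.Agent.Lib.Spor.JFourType.BigPrimes.Counts
import Cfsg.Agent.Lib.Block.Mathieu.DefectZero22

/-!
An element of order eleven commuting with one of order three has centraliser of order not divisible by nine;
the excluded configuration at the prime 31.
-/

set_option autoImplicit false
set_option maxRecDepth 100000
set_option linter.style.haveILetI false

open Cfsg

namespace Cfsg.Agent.Spor.JFour.Big

theorem M22_eleven {a b : ↥Cfsg.Spor.M22} (ha : orderOf a = 11) (hab : b * a = a * b) {k : ℕ} (hb : b ^ 3 ^ k = 1) :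
    b = 1 := by
  haveI : Fact (Nat.Prime 11) := ⟨by norm_num⟩
  obtain ⟨ham, he, hx, hconj, hkeep⟩ := Block.Mathieu.trans_spec Block.Mathieu.trans11
  let X : ↥Cfsg.Spor.M22 := ⟨_, hx⟩
  have hX : Nat.card ↥(Subgroup.centralizer ({X} : Set ↥Cfsg.Spor.M22)) ≤ 11 :=
    Block.Mathieu.centralizer_bound Cfsg.Spor.M22 Block.Mathieu.le24 ham _ hkeep he hconj Block.Mathieu.cent11.2
  have hXo : orderOf X = 11 := by
    show orderOf (⟨_, hx⟩ : ↥Cfsg.Spor.M22) = 11
    rw [Subgroup.orderOf_mk, ← Block.Mathieu.orderOf_e11, ← hconj]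
    refine (MulEquiv.orderOf_eq (MulAut.conj (Golay.permOf 0xaa9211aef63140c84c823a1af75232)⁻¹) _).symm.trans ?_
    rw [MulAut.conj_apply, inv_inv]
  have hf : (Nat.card ↥Cfsg.Spor.M22).factorization 11 = 1 := by
    rw [Fus.Mathieu.card22]
    have h1 := (Nat.Prime.pow_dvd_iff_le_factorization (k := 1) (n := 443520) (by norm_num : Nat.Prime 11)
      (by norm_num)).1 (by norm_num)
    have h2 : ¬ 2 ≤ (443520 : ℕ).factorization 11 := fun h => absurd
      ((Nat.Prime.pow_dvd_iff_le_factorization (by norm_num : Nat.Prime 11) (by norm_num)).2 h) (by norm_num)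
    omega
  obtain ⟨g, hg⟩ := MulAction.exists_smul_eq ↥Cfsg.Spor.M22
    (Sylow.ofCard (Subgroup.zpowers a) (by rw [Nat.card_zpowers, ha, hf, pow_one]) : Sylow 11 ↥Cfsg.Spor.M22)
    (Sylow.ofCard (Subgroup.zpowers X) (by rw [Nat.card_zpowers, hXo, hf, pow_one]))
  have h2 := congrArg (fun T : Sylow 11 ↥Cfsg.Spor.M22 => (T : Subgroup ↥Cfsg.Spor.M22)) hg
  simp only [Sylow.coe_ofCard] at h2
  have hmap : (Subgroup.zpowers a).map (MulAut.conj g).toMonoidHom = Subgroup.zpowers X := by rw [← h2]; rfl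
  have hca : Nat.card ↥(Subgroup.centralizer ({a} : Set ↥Cfsg.Spor.M22)) ≤ 11 := by
    have := map_conj_centralizer (Subgroup.zpowers a) g
    rw [hmap, centralizer_zpowers, centralizer_zpowers] at this
    rw [← this, Subgroup.card_map_of_injective (f := (MulAut.conj g).toMonoidHom) (MulAut.conj g).injective] at hX
    exact hX
  have heq : Subgroup.zpowers a = Subgroup.centralizer ({a} : Set ↥Cfsg.Spor.M22) :=
    Subgroup.eq_of_le_of_card_ge (Subgroup.zpowers_le.2 (Subgroup.mem_centralizer_singleton_iff.2 rfl))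
      (by rw [Nat.card_zpowers, ha]; exact hca)
  have hbm : b ∈ Subgroup.zpowers a := heq ▸ Subgroup.mem_centralizer_singleton_iff.2 hab
  obtain ⟨i, rfl⟩ := Subgroup.mem_zpowers_iff.1 hbm
  have h11 : orderOf (a ^ i) ∣ 11 := orderOf_dvd_of_pow_eq_one (by
    rw [← zpow_natCast, ← zpow_mul, mul_comm, zpow_mul, zpow_natCast, ← ha, pow_orderOf_eq_one, one_zpow])
  have h3 : orderOf (a ^ i) ∣ 3 ^ k := orderOf_dvd_of_pow_eq_one hb
  exact orderOf_eq_one_iff.1 (Nat.eq_one_of_dvd_coprimes (Nat.Coprime.pow_right k (by norm_num)) h11 h3)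

end Cfsg.Agent.Spor.JFour.Big

namespace Cfsg.Agent.Spor.JFour.Frame

open Big

variable {G : Type*} [Group G] {z : G} {P : Subgroup G} {S : Setting z P} (Fr : Frame S) [Finite G] [IsSimpleGroup G]

include Fr in
theorem not_nine (hG : ¬ IsMulCommutative G) {x : G} (hx : orderOf x = 11) :
    ¬ 9 ∣ Nat.card ↥(Subgroup.centralizer ({x} : Set G)) := by
  haveI : Fact (Nat.Prime 3) := ⟨Nat.prime_three⟩
  intro h9
  set D := Subgroup.centralizer ({x} : Set G) with hD
  obtain ⟨R⟩ : Nonempty (Sylow 3 ↥D) := inferInstance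
  have hR2 : 2 ≤ (Nat.card ↥D).factorization 3 :=
    (Nat.prime_three.pow_dvd_iff_le_factorization Nat.card_pos.ne').1 (by simpa using h9)
  obtain ⟨k, hk, hkc⟩ := IsPGroup.card_center_eq_prime_pow (R.card_eq_multiplicity) (by omega)
  obtain ⟨y, hy⟩ := exists_prime_orderOf_dvd_card' 3 (G := ↥(Subgroup.center ↥(R : Subgroup ↥D)))
    (hkc ▸ dvd_pow_self 3 (by omega))
  have hy3 : orderOf (((y : ↥(R : Subgroup ↥D)) : ↥D) : G) = 3 := by
    rw [Subgroup.orderOf_coe, Subgroup.orderOf_coe, Subgroup.orderOf_coe, hy]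
  obtain ⟨g, hg⟩ := isConj_iff.1 (Fr.isConj_p hG hy3)
  have hin : ∀ w : G, w * (((y : ↥(R : Subgroup ↥D)) : ↥D) : G) = (((y : ↥(R : Subgroup ↥D)) : ↥D) : G) * w →
      g * w * g⁻¹ ∈ CP z P := by
    intro w hw
    refine Fr.centralizer_P_le hG (Subgroup.mem_centralizer_iff.2 fun u hu => ?_)
    rw [S.hP] at hu
    obtain ⟨i, rfl⟩ := Subgroup.mem_zpowers_iff.1 hu
    have h := ((show Commute w _ from hw).conj g)
    rw [hg] at h
    exact (h.zpow_right i).eq.symm
  have hxy : x * (((y : ↥(R : Subgroup ↥D)) : ↥D) : G) = (((y : ↥(R : Subgroup ↥D)) : ↥D) : G) * x :=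
    (Subgroup.mem_centralizer_singleton_iff.1 (((y : ↥(R : Subgroup ↥D)) : ↥D)).2).symm
  have hry : ∀ r : ↥(R : Subgroup ↥D), ((r : ↥D) : G) * (((y : ↥(R : Subgroup ↥D)) : ↥D) : G) =
      (((y : ↥(R : Subgroup ↥D)) : ↥D) : G) * ((r : ↥D) : G) := fun r => by
    have := congrArg (fun t : ↥(R : Subgroup ↥D) => ((t : ↥D) : G)) (Subgroup.mem_center_iff.1 y.2 r)
    simpa using this
  let ρ : ↥(R : Subgroup ↥D) →* ↥Cfsg.Spor.M22 := (Frame.ψH (S := S)).comp
    { toFun := fun r => (⟨g * ((r : ↥D) : G) * g⁻¹, hin _ (hry r)⟩ : ↥(CP z P))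
      map_one' := Subtype.ext (show g * ((1 : G)) * g⁻¹ = 1 by group)
      map_mul' := fun r s => Subtype.ext (show g * (((r : ↥D) : G) * ((s : ↥D) : G)) * g⁻¹ =
        g * ((r : ↥D) : G) * g⁻¹ * (g * ((s : ↥D) : G) * g⁻¹) by group) }
  have hker6 : Nat.card ↥(Frame.ψH (S := S)).ker = 6 := by
    have h := (Frame.ψH (S := S)).ker.card_mul_index
    rw [Subgroup.index_ker, MonoidHom.range_eq_top.2 Frame.ψH_surjective, Subgroup.card_top, Fus.Mathieu.card22,
      S.cardC] at h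
    omega
  let xc : ↥(CP z P) := ⟨g * x * g⁻¹, hin x hxy⟩
  have hxo : orderOf (Frame.ψH (S := S) xc) = 11 := by
    haveI : Fact (Nat.Prime 11) := ⟨by norm_num⟩
    have hxc : orderOf xc = 11 := by
      rw [← Subgroup.orderOf_coe]; exact ((MulAut.conj g).orderOf_eq x).trans hx
    refine orderOf_eq_prime (by rw [← map_pow, ← hxc, pow_orderOf_eq_one, map_one]) fun e => ?_
    have h6 := orderOf_dvd_natCard (⟨xc, MonoidHom.mem_ker.2 e⟩ : ↥(Frame.ψH (S := S)).ker)
    rw [← Subgroup.orderOf_coe] at h6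
    change orderOf xc ∣ _ at h6
    rw [hxc, hker6] at h6
    norm_num at h6
  have htriv : ρ.ker = ⊤ := eq_top_iff.2 fun r _ => by
    rw [MonoidHom.mem_ker]
    refine M22_eleven hxo ?_ (k := (Nat.card ↥D).factorization 3) ?_
    · show Frame.ψH (S := S) _ * Frame.ψH (S := S) xc = Frame.ψH (S := S) xc * Frame.ψH (S := S) _
      rw [← map_mul, ← map_mul]
      refine congrArg _ (Subtype.ext ?_)
      exact ((show Commute ((r : ↥D) : G) x from Subgroup.mem_centralizer_singleton_iff.1 (r : ↥D).2).conj g).eq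
    · rw [← map_pow, ← R.card_eq_multiplicity, pow_card_eq_one', map_one]
  -- the group of order at least nine is mapped into the kernel
  let ι : ↥(R : Subgroup ↥D) → ↥(Frame.ψH (S := S)).ker := fun r =>
    ⟨⟨g * ((r : ↥D) : G) * g⁻¹, hin _ (hry r)⟩, by
      have : r ∈ ρ.ker := htriv ▸ Subgroup.mem_top r
      exact this⟩
  have hinj : Function.Injective ι := fun r s h => by
    have h' : g * ((r : ↥D) : G) * g⁻¹ = g * ((s : ↥D) : G) * g⁻¹ := congrArg (fun t => ((t : ↥(CP z P)) : G))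
      (congrArg Subtype.val h)
    exact Subtype.ext (Subtype.ext (mul_left_cancel (mul_right_cancel h')))
  have h9' : 9 ≤ Nat.card ↥(R : Subgroup ↥D) := by
    rw [R.card_eq_multiplicity]
    exact le_trans (by norm_num) (Nat.pow_le_pow_right (by norm_num) hR2)
  have := Nat.card_le_card_of_injective ι hinj
  omega

end Cfsg.Agent.Spor.JFour.Frame
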