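import Cfsg.Agent.Lib.Spor.JFourType.BigPrimes.Eleven

/-!
Sylow subgroups of order 23, 29, 31, 37 and 43 are self-centralising; the orders of their normalisers.
-/

set_option autoImplicit false
set_option maxRecDepth 100000
set_option linter.style.haveILetI false

open Cfsg

namespace Cfsg.Agent.Spor.JFour.Big

variable {G : Type*} [Group G] [Finite G]

theorem eleven_sq (hord : Nat.card G = N0) {x : G} (hx : orderOf x = 11) :
    121 ∣ Nat.card ↥(Subgroup.centralizer ({x} : Set G)) := by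
  haveI : Fact (Nat.Prime 11) := ⟨by norm_num⟩
  obtain ⟨Q, hQ⟩ := (IsPGroup.of_card (p := 11) (n := 1) (by rw [Nat.card_zpowers, hx, pow_one]) :
    IsPGroup 11 ↥(Subgroup.zpowers x)).exists_le_sylow
  have hf : 3 ≤ (Nat.card G).factorization 11 :=
    (Nat.Prime.pow_dvd_iff_le_factorization (by norm_num) Nat.card_pos.ne').1 (by rw [hord]; decide +kernel)
  have hxQ : x ∈ (Q : Subgroup G) := hQ (Subgroup.mem_zpowers x)
  set T := Subgroup.centralizer ({x} : Set G) ⊓ (Q : Subgroup G) with hT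
  obtain ⟨m, hm, hTc⟩ := (Nat.dvd_prime_pow (by norm_num : Nat.Prime 11)).1
    (Q.card_eq_multiplicity ▸ Subgroup.card_dvd_of_le (inf_le_right : T ≤ (Q : Subgroup G)))
  have hle : Subgroup.zpowers x ≤ T :=
    Subgroup.zpowers_le.2 ⟨Subgroup.mem_centralizer_singleton_iff.2 rfl, hxQ⟩
  suffices 2 ≤ m by
    refine ((pow_dvd_pow 11 this).trans ?_)
    rw [← hTc]
    exact Subgroup.card_dvd_of_le inf_le_left
  by_contra hlt
  have hTx : Subgroup.zpowers x = T := Subgroup.eq_of_le_of_card_ge hle (by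
    rw [hTc, Nat.card_zpowers, hx]
    exact Nat.le_of_dvd (by norm_num) (by simpa using pow_dvd_pow 11 (show m ≤ 1 by omega)))
  obtain ⟨k, hk, hkc⟩ := IsPGroup.card_center_eq_prime_pow (Q.card_eq_multiplicity) (by omega)
  -- the centre lies in the centraliser, so it is the cyclic group and the element is central
  have hcen : (Subgroup.center ↥(Q : Subgroup G)).map (Q : Subgroup G).subtype ≤ T := by
    rintro _ ⟨c, hc, rfl⟩
    refine ⟨Subgroup.mem_centralizer_singleton_iff.2 ?_, c.2⟩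
    exact (congrArg Subtype.val (Subgroup.mem_center_iff.1 hc ⟨x, hxQ⟩)).symm
  have hceq : (Subgroup.center ↥(Q : Subgroup G)).map (Q : Subgroup G).subtype = T := by
    refine Subgroup.eq_of_le_of_card_ge hcen ?_
    rw [Subgroup.card_map_of_injective (Q : Subgroup G).subtype_injective, hkc, ← hTx, Nat.card_zpowers, hx]
    exact Nat.le_of_dvd (pow_pos (by norm_num) _) (dvd_pow_self 11 (by omega))
  obtain ⟨c, hc, ec⟩ : x ∈ (Subgroup.center ↥(Q : Subgroup G)).map (Q : Subgroup G).subtype :=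
    hceq ▸ hle (Subgroup.mem_zpowers x)
  have hQT : (Q : Subgroup G) ≤ T := fun u hu => ⟨Subgroup.mem_centralizer_singleton_iff.2 (by
    rw [← ec]; exact congrArg Subtype.val (Subgroup.mem_center_iff.1 hc ⟨u, hu⟩)), hu⟩
  have := Subgroup.card_dvd_of_le hQT
  rw [Q.card_eq_multiplicity, hTc] at this
  have := Nat.pow_dvd_pow_iff_le_right (x := 11) (by norm_num) |>.1 this
  omega

theorem rest_checks : (∀ r ∈ [2, 3, 5, 7], r.Prime) ∧ facs.prod * (2 ^ 21 * 3 ^ 3 * 5 * 7) = N0 ∧
    N0 = 1023 * ((2 ^ 21 * 11 ^ 2) * (3 ^ 2 * 5 * 7 * 23 * 29 * 37 * 43)) := by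
  refine ⟨fun r hr => ?_, by decide +kernel, by decide +kernel⟩
  simp only [List.mem_cons, List.not_mem_nil, or_false] at hr
  rcases hr with rfl | rfl | rfl | rfl <;> norm_num

end Cfsg.Agent.Spor.JFour.Big

namespace Cfsg.Agent.Spor.JFour.Frame

open Big

variable {G : Type*} [Group G] {z : G} {P : Subgroup G} {S : Setting z P} (Fr : Frame S) [Finite G] [IsSimpleGroup G]

include Fr in
theorem cent_dvd (hJ : Cfsg.IsOfJankoFourTypeWith z P) (hG : ¬ IsMulCommutative G) (hord : Nat.card G = N0) {p : ℕ}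
    (hp : p ∈ bigs) {U : Subgroup G} (hU : Nat.card ↥U = p) :
    Nat.card ↥(Subgroup.centralizer (U : Set G)) ∣ facs.prod := by
  have hd := (Subgroup.centralizer (U : Set G)).card_subgroup_dvd_card
  rw [hord, ← rest_checks.2.1] at hd
  refine Nat.Coprime.dvd_of_dvd_mul_right ?_ hd
  refine Nat.coprime_of_dvd fun k hk hkC hk2 => ?_
  have hk' : k ∈ [2, 3, 5, 7] := by
    rcases hk.dvd_mul.1 hk2 with h | h
    rcases hk.dvd_mul.1 h with h | h
    rcases hk.dvd_mul.1 h with h | h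
    · rw [(Nat.prime_dvd_prime_iff_eq hk Nat.prime_two).1 (hk.dvd_of_dvd_pow h)]; decide
    · rw [(Nat.prime_dvd_prime_iff_eq hk Nat.prime_three).1 (hk.dvd_of_dvd_pow h)]; decide
    · rw [(Nat.prime_dvd_prime_iff_eq hk (by norm_num)).1 h]; decide
    · rw [(Nat.prime_dvd_prime_iff_eq hk (by norm_num)).1 h]; decide
  haveI : Fact k.Prime := ⟨hk⟩
  obtain ⟨x, hx⟩ := exists_prime_orderOf_dvd_card' k hkC
  refine Fr.small_cent hJ hG hord hk' hp (x := (x : G)) (by rw [Subgroup.orderOf_coe, hx]) ?_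
  rw [← hU]
  refine Subgroup.card_dvd_of_le fun u hu => Subgroup.mem_centralizer_singleton_iff.2 ?_
  exact Subgroup.mem_centralizer_iff.1 x.2 u hu

include Fr in
theorem shared (hJ : Cfsg.IsOfJankoFourTypeWith z P) (hG : ¬ IsMulCommutative G) (hord : Nat.card G = N0) {p q : ℕ}
    (hp : p ∈ bigs) (hq : q ∈ bigs) {U V : Subgroup G} (hU : Nat.card ↥U = p) (hV : Nat.card ↥V = q)
    (hd : q ∣ Nat.card ↥(Subgroup.centralizer (U : Set G))) :
    p ∣ Nat.card ↥(Subgroup.centralizer (V : Set G)) ∧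
      Nat.card ↥(Subgroup.normalizer (U : Set G)) = Nat.card ↥(Subgroup.normalizer (V : Set G)) := by
  haveI : Fact q.Prime := ⟨bigs_prime q hq⟩
  obtain ⟨x, hx⟩ := exists_prime_orderOf_dvd_card' q hd
  rw [← Subgroup.orderOf_coe] at hx
  have hW : Nat.card ↥(Subgroup.zpowers (x : G)) = q := by rw [Nat.card_zpowers, hx]
  obtain ⟨h1, h2⟩ := card_congr_big hord hq hW hV
  rw [← h1, ← h2]
  have hle : Subgroup.zpowers (x : G) ≤ Subgroup.centralizer (U : Set G) := Subgroup.zpowers_le.2 x.2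
  have hle' : U ≤ Subgroup.centralizer ((Subgroup.zpowers (x : G) : Subgroup G) : Set G) :=
    Subgroup.le_centralizer_iff.1 hle
  refine ⟨hU ▸ Subgroup.card_dvd_of_le hle', congrArg (fun W : Subgroup G => Nat.card ↥W) (le_antisymm ?_ ?_)⟩
  · exact normalizer_le hq hW (Fr.cent_dvd hJ hG hord hp hU) hle
  · exact normalizer_le hp hU (Fr.cent_dvd hJ hG hord hq hW) hle'

include Fr in
theorem exclude (hG : ¬ IsMulCommutative G) (hord : Nat.card G = N0) {U : Subgroup G} (hU : Nat.card ↥U = 31)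
    (hc : Nat.card ↥(Subgroup.centralizer (U : Set G)) = 341) (he : ei U = 15)
    (hoth : ∀ q ∈ bigs, q ≠ 31 → ∀ V : Subgroup G, Nat.card ↥V = q →
      ¬ 11 ∣ Nat.card ↥(Subgroup.centralizer (V : Set G))) : False := by
  haveI : Fact (Nat.Prime 11) := ⟨by norm_num⟩
  haveI : Fact (Nat.Prime 3) := ⟨Nat.prime_three⟩
  haveI : Fact (Nat.Prime 31) := ⟨by norm_num⟩
  haveI : IsCyclic ↥U := isCyclic_of_prime_card hU
  set C := Subgroup.centralizer (U : Set G) with hC
  set N := Subgroup.normalizer (U : Set G) with hN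
  have hNc : Nat.card ↥N = 5115 := by rw [hN, ← ei_mul, he, ← hC, hc]
  obtain ⟨x0, hx0⟩ := exists_prime_orderOf_dvd_card' 11 (G := ↥C) (by rw [hc]; norm_num)
  have hx : orderOf (x0 : G) = 11 := by rw [Subgroup.orderOf_coe, hx0]
  set x : G := (x0 : G) with hxdef
  set D := Subgroup.centralizer ({x} : Set G) with hD
  have hUC : U ≤ C := fun u hu => Subgroup.mem_centralizer_iff.2 fun v hv =>
    congrArg Subtype.val ((IsCyclic.isMulCommutative (α := ↥U)).is_comm.comm ⟨v, hv⟩ ⟨u, hu⟩)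
  have hUD : U ≤ D := fun u hu => Subgroup.mem_centralizer_singleton_iff.2 (Subgroup.mem_centralizer_iff.1 x0.2 u hu)
  have hxD : x ∈ D := Subgroup.mem_centralizer_singleton_iff.2 rfl
  have hCD : C ≤ D := by
    have h : C ⊓ D = C := Subgroup.eq_of_le_of_card_ge inf_le_left (by
      have h31 : 31 ∣ Nat.card ↥(C ⊓ D) := hU ▸ Subgroup.card_dvd_of_le (le_inf hUC hUD)
      have h11 : 11 ∣ Nat.card ↥(C ⊓ D) := by
        rw [← hx, ← Subgroup.orderOf_mk x (Subgroup.mem_inf.2 ⟨x0.2, hxD⟩)]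
        exact orderOf_dvd_natCard _
      rw [hc]
      exact Nat.le_of_dvd Nat.card_pos (Nat.Coprime.mul_dvd_of_dvd_of_dvd (by norm_num) h11 h31))
    exact h ▸ inf_le_right
  -- the element of order three
  obtain ⟨y0, hy0⟩ := exists_prime_orderOf_dvd_card' 3 (G := ↥N) (by rw [hNc]; norm_num)
  have hy : orderOf (y0 : G) = 3 := by rw [Subgroup.orderOf_coe, hy0]
  set y : G := (y0 : G) with hydef
  have hX1 : Nat.card (Sylow 11 ↥C) = 1 := by
    let X : Sylow 11 ↥C := Sylow.ofCard (Subgroup.zpowers x0) (by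
      rw [Nat.card_zpowers, hx0, hc]
      have h1 := (Nat.Prime.pow_dvd_iff_le_factorization (k := 1) (n := 341) (by norm_num : Nat.Prime 11)
        (by norm_num)).1 (by norm_num)
      have h2 : ¬ 2 ≤ (341 : ℕ).factorization 11 := fun h => absurd
        ((Nat.Prime.pow_dvd_iff_le_factorization (by norm_num : Nat.Prime 11) (by norm_num)).2 h) (by norm_num)
      rw [show (341 : ℕ).factorization 11 = 1 by omega, pow_one])
    haveI : (X : Subgroup ↥C).Normal := ⟨fun a ha c => by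
      simp only [X, Sylow.coe_ofCard] at ha ⊢
      obtain ⟨i, rfl⟩ := Subgroup.mem_zpowers_iff.1 ha
      have hcx : Commute c x0 := Subtype.ext (Subgroup.mem_centralizer_singleton_iff.1 (hCD c.2))
      rw [(hcx.zpow_right i).eq, mul_inv_cancel_right]
      exact ha⟩
    haveI := Sylow.unique_of_normal X ‹_›
    exact Nat.card_unique
  have hCy : y * x * y⁻¹ ∈ C := by
    refine Subgroup.mem_centralizer_iff.2 fun u hu => ?_
    have h1 : y⁻¹ * u * y ∈ U := by
      have := (Subgroup.mem_normalizer_iff.1 (inv_mem y0.2) u).1 hu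
      rwa [inv_inv] at this
    have h2 := Subgroup.mem_centralizer_iff.1 x0.2 _ h1
    calc u * (y * x * y⁻¹) = y * (y⁻¹ * u * y * x) * y⁻¹ := by group
      _ = y * (x * (y⁻¹ * u * y)) * y⁻¹ := by rw [h2]
      _ = _ := by group
  have hyX : y * x * y⁻¹ ∈ Subgroup.zpowers x := by
    have h := mem_of_orderOf (q := 11) (U := Subgroup.zpowers x0) (x := ⟨y * x * y⁻¹, hCy⟩)
      (by rw [Nat.card_zpowers, hx0]) (by rw [hc]; norm_num) hX1
      (by rw [Subgroup.orderOf_mk]; exact ((MulAut.conj y).orderOf_eq x).trans hx)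
    obtain ⟨i, hi⟩ := Subgroup.mem_zpowers_iff.1 h
    exact Subgroup.mem_zpowers_iff.2 ⟨i, by simpa using congrArg Subtype.val hi⟩
  have hyn : y ∈ Subgroup.normalizer (Subgroup.zpowers x : Set G) := by
    have hm : (Subgroup.zpowers x).map (MulAut.conj y).toMonoidHom = Subgroup.zpowers x :=
      Subgroup.eq_of_le_of_card_ge (by rw [MonoidHom.map_zpowers, Subgroup.zpowers_le]; exact hyX)
        (Subgroup.card_map_of_injective (f := (MulAut.conj y).toMonoidHom) (MulAut.conj y).injective).ge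
    refine Subgroup.mem_normalizer_iff.2 fun v => ⟨fun hv => hm ▸ ⟨v, hv, rfl⟩, fun hv => ?_⟩
    rw [← hm] at hv
    obtain ⟨w, hw, e⟩ := hv
    have : w = v := by simpa using e
    rwa [this] at hw
  have hyD : y ∈ D := Subgroup.mem_centralizer_singleton_iff.2
    (fixed_all (q := 3) (r := 11) (by norm_num) (by norm_num) hy (k := 1) (by rw [Nat.card_zpowers, hx, pow_one]) hyn
      (fun i hi h => by interval_cases i; · rfl
                        · norm_num at h) x (Subgroup.mem_zpowers x))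
  -- primes not dividing the centraliser
  have hno : ∀ r : ℕ, (r = 5 ∨ r = 7) → ¬ r ∣ Nat.card ↥D := by
    intro r hr hd
    haveI : Fact r.Prime := ⟨by rcases hr with rfl | rfl <;> norm_num⟩
    obtain ⟨w, hw⟩ := exists_prime_orderOf_dvd_card' r hd
    rw [← Subgroup.orderOf_coe] at hw
    have h11 : 11 ∣ Nat.card ↥(Subgroup.centralizer ({(w : G)} : Set G)) := by
      rw [← hx, ← Subgroup.orderOf_mk x (Subgroup.mem_centralizer_singleton_iff.2
        (Subgroup.mem_centralizer_singleton_iff.1 w.2).symm :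
          x ∈ Subgroup.centralizer ({(w : G)} : Set G))]
      exact orderOf_dvd_natCard _
    rcases hr with rfl | rfl
    · exact no_big_checks.2.2.2.1 11 List.mem_cons_self (h11.trans (Fr.card_cent_five hG hord hw))
    · exact no_big_checks.2.2.2.2 11 List.mem_cons_self (h11.trans (Fr.card_cent_seven hG hord hw))
  have hbig : ∀ q ∈ bigs, q ≠ 31 → ¬ q ∣ Nat.card ↥D := by
    intro q hq hne hd
    haveI : Fact q.Prime := ⟨bigs_prime q hq⟩
    obtain ⟨w, hw⟩ := exists_prime_orderOf_dvd_card' q hd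
    rw [← Subgroup.orderOf_coe] at hw
    refine hoth q hq hne (Subgroup.zpowers (w : G)) (by rw [Nat.card_zpowers, hw]) ?_
    rw [centralizer_zpowers, ← hx, ← Subgroup.orderOf_mk x (Subgroup.mem_centralizer_singleton_iff.2
        (Subgroup.mem_centralizer_singleton_iff.1 w.2).symm :
          x ∈ Subgroup.centralizer ({(w : G)} : Set G))]
    exact orderOf_dvd_natCard _
  -- the normaliser of the group of order 31 in the centraliser
  have hfD : (Nat.card ↥D).factorization 31 = 1 := by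
    have h1 := (Nat.Prime.pow_dvd_iff_le_factorization (k := 1) (by norm_num : Nat.Prime 31) Nat.card_pos.ne').1
      (by simpa using hU ▸ Subgroup.card_dvd_of_le hUD)
    have h2 : ¬ 2 ≤ (Nat.card ↥D).factorization 31 := fun h => by
      have := ((Nat.Prime.pow_dvd_iff_le_factorization (by norm_num : Nat.Prime 31) Nat.card_pos.ne').2 h).trans
        D.card_subgroup_dvd_card
      rw [hord] at this
      revert this
      decide +kernel
    omega
  let SU : Sylow 31 ↥D := Sylow.ofCard (U.subgroupOf D) (by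
    rw [Nat.card_congr (Subgroup.subgroupOfEquivOfLe hUD).toEquiv, hU, hfD, pow_one])
  have hmod := card_sylow_modEq_one 31 ↥D
  rw [SU.card_eq_index_normalizer] at hmod
  have hsub : Subgroup.normalizer ((SU : Subgroup ↥D) : Set ↥D) = N.subgroupOf D := by
    ext d
    simp only [SU, Sylow.coe_ofCard, Subgroup.mem_normalizer_iff, Subgroup.mem_subgroupOf, hN,
      Subgroup.coe_mul, Subgroup.coe_inv]
    refine ⟨fun h v => ⟨fun hv => (h ⟨v, hUD hv⟩).1 hv, fun hv => ?_⟩, fun h v => h v⟩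
    have hvD : v ∈ D := by
      have := mul_mem (mul_mem (inv_mem d.2) (hUD hv)) d.2
      rwa [show (d : G)⁻¹ * ((d : G) * v * (d : G)⁻¹) * d = v by group] at this
    exact (h ⟨v, hvD⟩).2 hv
  set T := N ⊓ D with hT
  have hTc : Nat.card ↥(N.subgroupOf D) = Nat.card ↥T := by
    rw [hT, ← Subgroup.inf_subgroupOf_right, Nat.card_congr (Subgroup.subgroupOfEquivOfLe inf_le_right).toEquiv]
  have hT1023 : Nat.card ↥T = 1023 := by
    have hd : Nat.card ↥T ∣ 5 * 1023 := by rw [show 5 * 1023 = 5115 by norm_num, ← hNc]; exact Subgroup.card_dvd_of_le inf_le_left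
    have h5 : ¬ 5 ∣ Nat.card ↥T := fun h => hno 5 (Or.inl rfl) (h.trans (Subgroup.card_dvd_of_le inf_le_right))
    have hd' : Nat.card ↥T ∣ 1023 :=
      (((Nat.Prime.coprime_iff_not_dvd (by norm_num)).2 h5).symm).dvd_of_dvd_mul_left hd
    have h3 : 3 ∣ Nat.card ↥T := by
      rw [← hy, ← Subgroup.orderOf_mk y (Subgroup.mem_inf.2 ⟨y0.2, hyD⟩ : y ∈ T)]
      exact orderOf_dvd_natCard _
    have h341 : 341 ∣ Nat.card ↥T :=
      hc ▸ Subgroup.card_dvd_of_le (le_inf (Subgroup.centralizer_le_normalizer _) hCD)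
    exact Nat.dvd_antisymm hd'
      (show 3 * 341 ∣ Nat.card ↥T from (show Nat.Coprime 3 341 by norm_num).mul_dvd_of_dvd_of_dvd h3 h341)
  set n := (Subgroup.normalizer ((SU : Subgroup ↥D) : Set ↥D)).index with hn
  have hDn : 1023 * n = Nat.card ↥D := by
    rw [← hT1023, ← hTc, hn, hsub]; exact Subgroup.card_mul_index _
  have hn31 : n % 31 = 1 := hmod
  have h3n : ¬ 3 ∣ n := fun h => Fr.not_nine hG hx (by
    rw [← hD, ← hDn]; exact Nat.mul_dvd_mul (show 3 ∣ 1023 by norm_num) h)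
  have hdvd : n ∣ 2 ^ 21 * 11 ^ 2 := by
    have hd := D.card_subgroup_dvd_card
    rw [hord, rest_checks.2.2, ← hDn] at hd
    refine Nat.Coprime.dvd_of_dvd_mul_right ?_ ((Nat.mul_dvd_mul_iff_left (by norm_num)).1 hd)
    have hdvn : ∀ r, r ∣ n → r ∣ Nat.card ↥D := fun r h => h.trans (hDn ▸ Dvd.intro_left _ rfl)
    have co : ∀ r : ℕ, r.Prime → ¬ r ∣ n → Nat.Coprime n r := fun r hr h => ((hr.coprime_iff_not_dvd).2 h).symm
    refine Nat.Coprime.mul_right (Nat.Coprime.mul_right (Nat.Coprime.mul_right (Nat.Coprime.mul_right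
      (Nat.Coprime.mul_right (Nat.Coprime.mul_right ((co 3 Nat.prime_three h3n).pow_right 2) ?_) ?_) ?_) ?_) ?_) ?_
    · exact co 5 (by norm_num) fun h => hno 5 (Or.inl rfl) (hdvn 5 h)
    · exact co 7 (by norm_num) fun h => hno 7 (Or.inr rfl) (hdvn 7 h)
    · exact co 23 (by norm_num) fun h => hbig 23 (by decide) (by decide) (hdvn 23 h)
    · exact co 29 (by norm_num) fun h => hbig 29 (by decide) (by decide) (hdvn 29 h)
    · exact co 37 (by norm_num) fun h => hbig 37 (by decide) (by decide) (hdvn 37 h)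
    · exact co 43 (by norm_num) fun h => hbig 43 (by decide) (by decide) (hdvn 43 h)
  have h11n : 11 ∣ n := by
    have h121 := eleven_sq hord hx
    rw [← hD, ← hDn, show 121 = 11 * 11 by norm_num, show 1023 * n = 11 * (93 * n) by ring,
      Nat.mul_dvd_mul_iff_left (by norm_num)] at h121
    exact (Nat.Prime.dvd_mul (by norm_num)).1 h121 |>.resolve_left (by norm_num)
  obtain ⟨a, b, ha, hb, hab⟩ := Nat.dvd_mul.1 hdvd
  obtain ⟨j, hj, rfl⟩ := (Nat.dvd_prime_pow Nat.prime_two).1 ha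
  obtain ⟨k, hk, rfl⟩ := (Nat.dvd_prime_pow (by norm_num : Nat.Prime 11)).1 hb
  have hk0 := eleven_count j (by omega) k (by omega) (hab ▸ hn31)
  rw [hk0, pow_zero, mul_one] at hab
  have := (Nat.prime_dvd_prime_iff_eq (by norm_num) Nat.prime_two).1
    ((by norm_num : Nat.Prime 11).dvd_of_dvd_pow (hab ▸ h11n : 11 ∣ 2 ^ j))
  norm_num at this

include Fr in
theorem big_local (hJ : Cfsg.IsOfJankoFourTypeWith z P) (hG : ¬ IsMulCommutative G) (hord : Nat.card G = N0) :
    ∀ p ∈ bigs, ∀ U : Subgroup G, Nat.card ↥U = p →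
      Subgroup.centralizer (U : Set G) = U ∧
      (p, p, ei U) ∈ final ∧ Nat.card ↥(Subgroup.normalizer (U : Set G)) = p * ei U := by
  classical
  have hex : ∀ p : ℕ, ∃ U : Subgroup G, p ∈ bigs → Nat.card ↥U = p := by
    intro p
    by_cases hp : p ∈ bigs
    · haveI : Fact p.Prime := ⟨bigs_prime p hp⟩
      obtain ⟨S⟩ : Nonempty (Sylow p G) := inferInstance
      exact ⟨S, fun _ => by rw [S.card_eq_multiplicity, factorization_big hord hp, pow_one]⟩
    · exact ⟨⊥, fun h => absurd h hp⟩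
  choose V hV using hex
  let co : ℕ → ℕ := fun p => Nat.card ↥(Subgroup.centralizer (V p : Set G))
  let ee : ℕ → ℕ := fun p => ei (V p)
  have hsame : ∀ p ∈ bigs, ∀ U : Subgroup G, Nat.card ↥U = p →
      Nat.card ↥(Subgroup.centralizer (U : Set G)) = co p ∧ ei U = ee p := by
    intro p hp U hU
    obtain ⟨h1, h2⟩ := card_congr_big hord hp hU (hV p hp)
    refine ⟨h1, ?_⟩
    rw [← ei_mul, ← ei_mul (V p), h1] at h2
    exact Nat.eq_of_mul_eq_mul_right Nat.card_pos h2
  have hself : ∀ p ∈ bigs, ∀ U : Subgroup G, Nat.card ↥U = p → U ≤ Subgroup.centralizer (U : Set G) := by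
    intro p hp U hU
    haveI : Fact p.Prime := ⟨bigs_prime p hp⟩
    haveI : IsCyclic ↥U := isCyclic_of_prime_card hU
    exact fun u hu => Subgroup.mem_centralizer_iff.2 fun v hv =>
      congrArg Subtype.val ((IsCyclic.isMulCommutative (α := ↥U)).is_comm.comm ⟨v, hv⟩ ⟨u, hu⟩)
  have ht : ∀ p ∈ bigs, (co p, ee p) ∈ table p := by
    intro p hp
    haveI : Fact p.Prime := ⟨bigs_prime p hp⟩
    obtain ⟨hdiv, hmod⟩ := count_big hord hp (hV p hp)
    refine table_of hp (Fr.cent_dvd hJ hG hord hp (hV p hp)) (one_lt_ei hord hp (hV p hp)) (ei_dvd (hV p hp))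
      ((dvd_of_eq (hV p hp).symm).trans (Subgroup.card_dvd_of_le (hself p hp _ (hV p hp)))) hdiv hmod ?_ ?_
    · rintro rfl
      haveI : Fact (Nat.Prime 11) := ⟨by norm_num⟩
      obtain ⟨a, g, ha, hg, h⟩ := Fr.exists_pair23 hG
      show 11 ∣ ee 23
      rw [← (hsame 23 hp _ (by rw [Nat.card_zpowers, ha] : Nat.card ↥(Subgroup.zpowers a) = 23)).2]
      exact dvd_ei (p := 23) (by rw [Nat.card_zpowers, ha]) rfl hg h (fun e => by simp [e] at ha)
    · rintro rfl
      haveI : Fact (Nat.Prime 5) := ⟨by norm_num⟩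
      obtain ⟨a, g, ha, hg, h⟩ := Fr.exists_pair31 hG
      show 5 ∣ ee 31
      rw [← (hsame 31 hp _ (by rw [Nat.card_zpowers, ha] : Nat.card ↥(Subgroup.zpowers a) = 31)).2]
      exact dvd_ei (p := 31) (by rw [Nat.card_zpowers, ha]) rfl hg h (fun e => by simp [e] at ha)
  have hs : ∀ p ∈ bigs, ∀ q ∈ bigs, q ≠ p → q ∣ co p → p ∣ co q ∧ co p * ee p = co q * ee q := by
    intro p hp q hq _ hd
    obtain ⟨h1, h2⟩ := Fr.shared hJ hG hord hp hq (hV p hp) (hV q hq) hd
    refine ⟨h1, ?_⟩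
    rw [← ei_mul, ← ei_mul] at h2
    rw [mul_comm, h2, mul_comm]
  have hfin := final_of co ee ht hs
  have h341 : ¬ (co 31 = 341 ∧ ee 31 = 15) := by
    rintro ⟨h1, h2⟩
    refine Fr.exclude hG hord (hV 31 (by decide)) h1 h2 fun q hq hne W hW hd => ?_
    rw [(hsame q hq W hW).1] at hd
    have h := hfin q hq
    simp only [final, List.mem_cons, List.not_mem_nil, or_false, Prod.mk.injEq] at h
    rcases h with ⟨e, e1, -⟩ | ⟨e, e1, -⟩ | ⟨e, e1, -⟩ | ⟨e, e1, -⟩ | ⟨e, e1, -⟩ | ⟨e, e1, -⟩ <;>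
      first | exact hne e | (rw [e1] at hd; norm_num at hd)
  intro p hp U hU
  obtain ⟨h1, h2⟩ := hsame p hp U hU
  have hco : co p = p := by
    have h := hfin p hp
    simp only [final, List.mem_cons, List.not_mem_nil, or_false, Prod.mk.injEq] at h
    rcases h with ⟨e, e1, -⟩ | ⟨e, e1, -⟩ | ⟨e, e1, -⟩ | ⟨e, e1, e2⟩ | ⟨e, e1, -⟩ | ⟨e, e1, -⟩ <;>
      first | exact e1.trans e.symm | exact absurd ⟨e ▸ e1, e ▸ e2⟩ h341
  have hCU : Subgroup.centralizer (U : Set G) = U :=
    (Subgroup.eq_of_le_of_card_ge (hself p hp U hU) (by rw [h1, hco, hU])).symm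
  refine ⟨hCU, ?_, ?_⟩
  · have h := hfin p hp
    rw [hco] at h
    rw [h2]
    exact h
  · rw [← ei_mul, h1, hco, mul_comm]

end Cfsg.Agent.Spor.JFour.Frame
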