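import Cfsg.Agent.Lib.Spor.JFourType.BigPrimes.Main

/-!
The Sylow normalisers at the large primes in a group of Janko-four type of the order of the fourth Janko group.
-/

set_option autoImplicit false
set_option linter.style.haveILetI false

open Cfsg

namespace Cfsg.Agent.Spor.JFour.Big

theorem sylow_normalizer {G : Type*} [Group G] [Finite G] [IsSimpleGroup G] (hG : ¬ IsMulCommutative G)
    (hJ : Cfsg.IsOfJankoFourType G) (hord : Nat.card G = N0) {p m : ℕ}
    (hp : (p, p, m) ∈ final) (hb : p ∈ bigs) (U : Sylow p G) :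
    Subgroup.centralizer ((U : Subgroup G) : Set G) = (U : Subgroup G) ∧
      Nat.card ↥(Subgroup.normalizer ((U : Subgroup G) : Set G)) = p * m := by
  obtain ⟨z, P, hJ⟩ := hJ
  obtain ⟨S⟩ := exists_setting hJ
  obtain ⟨Fr⟩ := exists_frameA S
  haveI : Fact p.Prime := ⟨bigs_prime p hb⟩
  have hU : Nat.card ↥(U : Subgroup G) = p := by
    rw [U.card_eq_multiplicity, factorization_big hord hb, pow_one]
  obtain ⟨h1, h2, h3⟩ := Fr.big_local hJ hG hord p hb _ hU
  refine ⟨h1, ?_⟩
  rw [h3]
  have huniq : ∀ a ∈ final, ∀ b ∈ final, a.1 = a.2.1 → b.1 = b.2.1 → a.1 = b.1 → a.2.2 = b.2.2 := by decide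
  exact congrArg (p * ·) (huniq _ h2 _ hp rfl rfl rfl)

/-- The statement for the five primes. -/
theorem sylow_normalizers {G : Type*} [Group G] [Finite G] [IsSimpleGroup G] (hG : ¬ IsMulCommutative G)
    (hJ : Cfsg.IsOfJankoFourType G) (hord : Nat.card G = N0) :
    (∀ U : Sylow 23 G, Subgroup.centralizer ((U : Subgroup G) : Set G) = (U : Subgroup G) ∧ Nat.card ↥(Subgroup.normalizer ((U : Subgroup G) : Set G)) = 23 * 22) ∧
    (∀ U : Sylow 29 G, Subgroup.centralizer ((U : Subgroup G) : Set G) = (U : Subgroup G) ∧ Nat.card ↥(Subgroup.normalizer ((U : Subgroup G) : Set G)) = 29 * 28) ∧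
    (∀ U : Sylow 31 G, Subgroup.centralizer ((U : Subgroup G) : Set G) = (U : Subgroup G) ∧ Nat.card ↥(Subgroup.normalizer ((U : Subgroup G) : Set G)) = 31 * 10) ∧
    (∀ U : Sylow 37 G, Subgroup.centralizer ((U : Subgroup G) : Set G) = (U : Subgroup G) ∧ Nat.card ↥(Subgroup.normalizer ((U : Subgroup G) : Set G)) = 37 * 12) ∧
    (∀ U : Sylow 43 G, Subgroup.centralizer ((U : Subgroup G) : Set G) = (U : Subgroup G) ∧ Nat.card ↥(Subgroup.normalizer ((U : Subgroup G) : Set G)) = 43 * 14) :=
  ⟨sylow_normalizer hG hJ hord (by decide) (by decide), sylow_normalizer hG hJ hord (by decide) (by decide),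
    sylow_normalizer hG hJ hord (by decide) (by decide), sylow_normalizer hG hJ hord (by decide) (by decide),
    sylow_normalizer hG hJ hord (by decide) (by decide)⟩

end Cfsg.Agent.Spor.JFour.Big
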