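import Cfsg.Agent.Lib.Spor.JFourType.BigPrimes.Central

/-!
The centraliser of an element of large prime order: its subgroups of large prime order are unique; two commuting
subgroups of large prime orders have the same normaliser.
-/

set_option autoImplicit false
set_option maxRecDepth 100000
set_option Elab.async false
set_option linter.style.haveILetI false

namespace Cfsg.Agent.Spor.JFour.Big

theorem bigs_prime : ∀ q ∈ bigs, q.Prime := by
  simp only [bigs, List.mem_cons, List.not_mem_nil, or_false, forall_eq_or_imp, forall_eq]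
  norm_num

theorem facs_mem {r : ℕ} (hr : r.Prime) (hd : r ∣ facs.prod) : r ∈ [11, 23, 29, 31, 37, 43] := by
  obtain ⟨a, ha, hra⟩ := (Prime.dvd_prod_iff hr.prime).1 hd
  rw [(Nat.prime_dvd_prime_iff_eq hr (facs_prime a ha)).1 hra]
  have : ∀ a ∈ facs, a ∈ [11, 23, 29, 31, 37, 43] := by decide
  exact this a ha

theorem facs_checks : (∀ q ∈ bigs, q ≠ 23 → Nat.gcd facs.prod (q - 1) = 1) ∧
    (∀ q ∈ bigs, ¬ q ^ 2 ∣ facs.prod) ∧ (∀ r ∈ [11, 23, 29, 31, 37, 43], ¬ r ^ 4 ∣ facs.prod) ∧
    (∀ q ∈ bigs, ∀ r ∈ [11, 23, 29, 31, 37, 43], ∀ i < 4, r ^ i ∣ facs.prod → r ^ i % q = 1 → i = 0) ∧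
    (∀ n ∈ divs facs, n % 23 = 1 → ¬ 29 ∣ n → ¬ 31 ∣ n → ¬ 37 ∣ n → ¬ 43 ∣ n → n = 1) := by
  decide +kernel

variable {C : Type*} [Group C] [Finite C] (hC : Nat.card C ∣ facs.prod)

include hC

theorem sq_not_dvd {q : ℕ} (hq : q ∈ bigs) : ¬ q ^ 2 ∣ Nat.card C :=
  fun h => facs_checks.2.1 q hq (h.trans hC)

theorem central_big {q : ℕ} (hq : q ∈ bigs) (h23 : q ≠ 23) {U : Subgroup C} (hU : Nat.card ↥U = q) :
    U ≤ Subgroup.center C := by
  haveI : Fact q.Prime := ⟨bigs_prime q hq⟩
  obtain ⟨hco, -, h4, hpow, -⟩ := facs_checks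
  refine central hU (sq_not_dvd hC hq) (Nat.Coprime.coprime_dvd_left hC (hco q hq h23)) fun r hr _ i hi hmod => ?_
  by_contra hi0
  have hrm := facs_mem hr ((dvd_pow_self r hi0).trans (hi.trans hC))
  by_cases hlt : i < 4
  · exact hi0 (hpow q hq r hrm i hlt (hi.trans hC) hmod)
  · exact h4 r hrm ((pow_dvd_pow r (by omega)).trans (hi.trans hC))

theorem card_sylow {q : ℕ} (hq : q ∈ bigs) : Nat.card (Sylow q C) = 1 := by
  haveI : Fact q.Prime := ⟨bigs_prime q hq⟩
  obtain ⟨S⟩ : Nonempty (Sylow q C) := inferInstance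
  by_cases hd : q ∣ Nat.card C
  swap
  · have hb : (S : Subgroup C) = ⊥ := Subgroup.card_eq_one.1 (by
      rw [S.card_eq_multiplicity, Nat.factorization_eq_zero_of_not_dvd hd, pow_zero])
    rw [S.card_eq_index_normalizer]
    show (Subgroup.normalizer ((S : Subgroup C) : Set C)).index = 1
    rw [hb, Subgroup.normalizer_eq_top, Subgroup.index_top]
  have hS : Nat.card ↥(S : Subgroup C) = q := by
    have h1 := (Nat.Prime.pow_dvd_iff_le_factorization (k := 1) (bigs_prime q hq) Nat.card_pos.ne').1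
      (by simpa using hd)
    have h2 : ¬ 2 ≤ (Nat.card C).factorization q := fun h =>
      sq_not_dvd hC hq ((Nat.Prime.pow_dvd_iff_le_factorization (bigs_prime q hq) Nat.card_pos.ne').2 h)
    rw [S.card_eq_multiplicity, show (Nat.card C).factorization q = 1 by omega, pow_one]
  rw [S.card_eq_index_normalizer]
  show (Subgroup.normalizer ((S : Subgroup C) : Set C)).index = 1
  set N := Subgroup.normalizer ((S : Subgroup C) : Set C) with hN
  by_cases h23 : q = 23
  swap
  · have hc := central_big hC hq h23 hS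
    have : N = ⊤ := eq_top_iff.2 fun g _ => Subgroup.centralizer_le_normalizer _
      (Subgroup.mem_centralizer_iff.2 fun u hu => ((Subgroup.mem_center_iff.1 (hc hu)) g).symm)
    rw [this, Subgroup.index_top]
  subst h23
  have hnd : N.index ∣ Nat.card C := N.index_dvd_card
  have hmod : N.index % 23 = 1 := by
    have := card_sylow_modEq_one 23 C
    rw [S.card_eq_index_normalizer, Nat.ModEq] at this
    exact this
  have hno : ∀ r ∈ [29, 31, 37, 43], ¬ r ∣ N.index := by
    intro r hr hrn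
    have hrb : r ∈ bigs ∧ r ≠ 23 := by
      have : ∀ r ∈ [29, 31, 37, 43], r ∈ bigs ∧ r ≠ 23 := by decide
      exact this r hr
    haveI : Fact r.Prime := ⟨bigs_prime r hrb.1⟩
    obtain ⟨x, hx⟩ := exists_prime_orderOf_dvd_card' r (hrn.trans hnd)
    have hxN : x ∈ N := Subgroup.centralizer_le_normalizer _ (Subgroup.mem_centralizer_iff.2 fun u _ =>
      (Subgroup.mem_center_iff.1 (central_big hC hrb.1 hrb.2 (U := Subgroup.zpowers x)
        (by rw [Nat.card_zpowers, hx]) (Subgroup.mem_zpowers x))) u)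
    refine sq_not_dvd hC hrb.1 ?_
    rw [pow_two, ← N.card_mul_index]
    refine Nat.mul_dvd_mul ?_ hrn
    rw [← hx, ← Subgroup.orderOf_mk x hxN]
    exact orderOf_dvd_natCard _
  exact facs_checks.2.2.2.2 _ (mem_divs facs_prime (hnd.trans hC)) hmod (hno 29 (by decide)) (hno 31 (by decide))
    (hno 37 (by decide)) (hno 43 (by decide))

omit hC in
/-- A subgroup of large prime order commuting with another is normalised by its normaliser. -/
theorem normalizer_le {G : Type*} [Group G] [Finite G] {U V : Subgroup G} {q : ℕ} (hq : q ∈ bigs)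
    (hV : Nat.card ↥V = q) (hC : Nat.card ↥(Subgroup.centralizer (U : Set G)) ∣ facs.prod)
    (hVU : V ≤ Subgroup.centralizer (U : Set G)) :
    Subgroup.normalizer (U : Set G) ≤ Subgroup.normalizer (V : Set G) := by
  haveI : Fact q.Prime := ⟨bigs_prime q hq⟩
  intro g hg
  set C := Subgroup.centralizer (U : Set G) with hCdef
  have hgC : ∀ c ∈ C, g * c * g⁻¹ ∈ C := fun c hc => Subgroup.mem_centralizer_iff.2 fun u hu => by
    have h1 : g⁻¹ * u * g ∈ U := by
      have := (Subgroup.mem_normalizer_iff.1 (inv_mem hg) u).1 hu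
      rwa [inv_inv] at this
    have h2 := Subgroup.mem_centralizer_iff.1 hc _ h1
    calc u * (g * c * g⁻¹) = g * (g⁻¹ * u * g * c) * g⁻¹ := by group
      _ = g * (c * (g⁻¹ * u * g)) * g⁻¹ := by rw [h2]
      _ = _ := by group
  have key : ∀ x ∈ C, orderOf x = q → x ∈ V := by
    intro x hx hxo
    have := mem_of_orderOf (U := V.subgroupOf C) (x := ⟨x, hx⟩)
      (by rw [Nat.card_congr (Subgroup.subgroupOfEquivOfLe hVU).toEquiv, hV]) (sq_not_dvd hC hq)
      (card_sylow hC hq) (by rw [Subgroup.orderOf_mk, hxo])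
    exact Subgroup.mem_subgroupOf.1 this
  have hmap : V.map (MulAut.conj g).toMonoidHom = V := by
    refine Subgroup.eq_of_le_of_card_ge ?_ (le_of_eq ?_)
    · rintro _ ⟨v, hv, rfl⟩
      rcases (Nat.dvd_prime (bigs_prime q hq)).1 (hV ▸ Subgroup.orderOf_mk v hv ▸ orderOf_dvd_natCard
        (⟨v, hv⟩ : ↥V)) with h1 | h1
      · rw [orderOf_eq_one_iff] at h1
        simp [h1]
      · exact key _ (hgC v (hVU hv)) (by rw [← h1]; exact (MulAut.conj g).orderOf_eq v)
    · exact (Subgroup.card_map_of_injective (f := (MulAut.conj g).toMonoidHom) (MulAut.conj g).injective).symm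
  exact Subgroup.mem_normalizer_iff.2 fun v => ⟨fun hv => hmap ▸ ⟨v, hv, rfl⟩, fun hv => by
    rw [← hmap] at hv
    obtain ⟨w, hw, e⟩ := hv
    have : w = v := by simpa using e
    rwa [this] at hw⟩

end Cfsg.Agent.Spor.JFour.Big
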