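import Cfsg.Agent.Lib.Spor.JFourType.BigPrimes.Shared
import Cfsg.Agent.Lib.Spor.JFourType.Pentad.Local
import Cfsg.Agent.Lib.Spor.JFourType.ThreeGroup
import Cfsg.Agent.Lib.Spor.JFourType.OddCore
import Cfsg.Agent.S5569

/-!
The centralisers of elements of order 2, 3, 5 and 7 have no large prime divisors.
-/

set_option autoImplicit false
set_option maxRecDepth 100000
set_option linter.style.haveILetI false

open Cfsg

namespace Cfsg.Agent.Spor.JFour.Big

theorem card_aut22 : Nat.card (MulAut ↥Cfsg.Spor.M22) = 887040 := by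
  obtain ⟨s, hs, hs1, hs2⟩ := Duads.exists_swap
  rw [← Nat.card_congr (MulEquiv.ofBijective Duads.toAut Duads.toAut_bijective).toEquiv,
    ← Subgroup.relIndex_bot_left, ← Subgroup.relIndex_mul_relIndex ⊥ Cfsg.Spor.M22 Duads.Pair0 bot_le Duads.M22_le,
    Subgroup.relIndex_bot_left, Fus.Mathieu.card22, (Cfsg.Agent.S5599.result s hs hs1 hs2).1]

theorem card_cent_conj {G : Type*} [Group G] {x y : G} (h : IsConj x y) :
    Nat.card ↥(Subgroup.centralizer ({x} : Set G)) = Nat.card ↥(Subgroup.centralizer ({y} : Set G)) := by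
  obtain ⟨g, hg⟩ := isConj_iff.1 h
  have e : (Subgroup.centralizer ({x} : Set G)).map (MulAut.conj g).toMonoidHom =
      Subgroup.centralizer ({y} : Set G) := by
    ext u
    rw [Subgroup.mem_map, Subgroup.mem_centralizer_singleton_iff, ← hg]
    constructor
    · rintro ⟨v, hv, rfl⟩
      have h := (show Commute v x from Subgroup.mem_centralizer_singleton_iff.1 hv).map (MulAut.conj g)
      simpa using h.eq
    · intro hu
      refine ⟨g⁻¹ * u * g, Subgroup.mem_centralizer_singleton_iff.2 ?_, by simp [mul_assoc]⟩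
      calc g⁻¹ * u * g * x = g⁻¹ * (u * (g * x * g⁻¹)) * g := by group
        _ = g⁻¹ * (g * x * g⁻¹ * u) * g := by rw [hu]
        _ = _ := by group
  rw [← e]
  exact (Subgroup.card_map_of_injective (f := (MulAut.conj g).toMonoidHom) (MulAut.conj g).injective).symm

theorem no_big_checks : (∀ p ∈ bigs, ¬ p ∣ 2 ^ 21 * 10395) ∧ (∀ p ∈ bigs, ¬ p ∣ 2 ^ 11 * 887040) ∧
    (∀ p ∈ bigs, ¬ p ∣ 6 * 443520) ∧ (∀ p ∈ 11 :: bigs, ¬ p ∣ 26880) ∧ (∀ p ∈ 11 :: bigs, ¬ p ∣ 2520) := by
  decide +kernel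

end Cfsg.Agent.Spor.JFour.Big

namespace Cfsg.Agent.Spor.JFour.Frame

open Big

variable {G : Type*} [Group G] {z : G} {P : Subgroup G} {S : Setting z P} (Fr : Frame S) [Finite G] [IsSimpleGroup G]

include Fr in
theorem card_cent_two (hJ : Cfsg.IsOfJankoFourTypeWith z P) (hG : ¬ IsMulCommutative G) {x : G} (hx : orderOf x = 2) :
    Nat.card ↥(Subgroup.centralizer ({x} : Set G)) ∣ 2 ^ 21 * 10395 ∨
      Nat.card ↥(Subgroup.centralizer ({x} : Set G)) ∣ 2 ^ 11 * 887040 := by
  by_cases hc : IsConj z x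
  · left
    rw [← card_cent_conj hc, S.card_H]
  · right
    obtain ⟨V, K, -, hK, hN, -, hV, hKV, hsup, ⟨e⟩⟩ := Cfsg.Agent.S5569.result hG z ⟨P, hJ⟩ x hx hc
    have h : Nat.card ↥(Subgroup.centralizer ({x} : Set G)) = Nat.card ↥V * Nat.card ↥K := by
      rw [← hsup, sup_comm]
      refine (Nat.card_congr (Equiv.ofBijective (fun u : ↥V × ↥K => (⟨(u.1 : G) * u.2,
        mul_mem (Subgroup.mem_sup_left u.1.2) (Subgroup.mem_sup_right u.2.2)⟩ : ↥(V ⊔ K))) ⟨?_, ?_⟩)).symm.trans
        (Nat.card_prod _ _)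
      · rintro ⟨a, b⟩ ⟨c, d⟩ h
        have h' : (a : G) * b = c * d := congrArg Subtype.val h
        have hm : (c : G)⁻¹ * a = d * (b : G)⁻¹ := by
          rw [eq_mul_inv_iff_mul_eq, mul_assoc, h']; group
        have hk : (c : G)⁻¹ * a ∈ K := by rw [hm]; exact K.mul_mem d.2 (K.inv_mem b.2)
        have h1 : (c : G)⁻¹ * a ∈ K ⊓ V := Subgroup.mem_inf.2 ⟨hk, V.mul_mem (V.inv_mem c.2) a.2⟩
        rw [hKV, Subgroup.mem_bot, inv_mul_eq_one] at h1
        have h2 : (b : G) = d := mul_left_cancel (h'.trans (by rw [h1]))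
        exact Prod.ext (Subtype.ext h1.symm) (Subtype.ext h2)
      · rintro ⟨u, hu⟩
        have hKN : K ≤ Subgroup.normalizer (V : Set G) := hK.trans hN
        have hu' := hu
        rw [← SetLike.mem_coe, Subgroup.coe_mul_of_right_le_normalizer_left _ _ hKN] at hu'
        obtain ⟨a, ha, b, hb, rfl⟩ := hu'
        exact ⟨⟨⟨a, ha⟩, ⟨b, hb⟩⟩, rfl⟩
    rw [h, hV, Nat.card_congr e.toEquiv, card_aut22]

include Fr in
theorem card_cent_three (hG : ¬ IsMulCommutative G) {x : G} (hx : orderOf x = 3) :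
    Nat.card ↥(Subgroup.centralizer ({x} : Set G)) ∣ 6 * 443520 := by
  rw [card_cent_conj (Fr.isConj_p hG hx), ← S.cardC]
  refine Subgroup.card_dvd_of_le (le_trans ?_ (Fr.centralizer_P_le hG))
  intro g hg
  refine Subgroup.mem_centralizer_iff.2 fun u hu => ?_
  rw [S.hP] at hu
  obtain ⟨i, rfl⟩ := Subgroup.mem_zpowers_iff.1 hu
  exact ((show Commute g S.p from Subgroup.mem_centralizer_singleton_iff.1 hg).zpow_right i).eq.symm

include Fr in
theorem exists_conj_H (hord : Nat.card G = N0) {r : ℕ} (hr : r = 5 ∨ r = 7) {x : G} (hx : orderOf x = r) :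
    ∃ g : G, g * x * g⁻¹ ∈ Subgroup.centralizer ({z} : Set G) := by
  haveI : Fact r.Prime := ⟨by rcases hr with rfl | rfl <;> norm_num⟩
  have hdH : r ∣ Nat.card ↥(Subgroup.centralizer ({z} : Set G)) := by
    rw [S.card_H]; rcases hr with rfl | rfl <;> norm_num
  obtain ⟨y, hy⟩ := exists_prime_orderOf_dvd_card' r hdH
  rw [← Subgroup.orderOf_coe] at hy
  have hf : (Nat.card G).factorization r = 1 := by
    have hd : r ∣ Nat.card G ∧ ¬ r ^ 2 ∣ Nat.card G := by
      rw [hord]; rcases hr with rfl | rfl <;> decide +kernel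
    have h1 := (Nat.Prime.pow_dvd_iff_le_factorization (k := 1) (Fact.out : r.Prime) Nat.card_pos.ne').1
      (by simpa using hd.1)
    have h2 : ¬ 2 ≤ (Nat.card G).factorization r := fun h =>
      hd.2 ((Nat.Prime.pow_dvd_iff_le_factorization Fact.out Nat.card_pos.ne').2 h)
    omega
  obtain ⟨g, hg⟩ := MulAction.exists_smul_eq G
    (Sylow.ofCard (Subgroup.zpowers x) (by rw [Nat.card_zpowers, hx, hf, pow_one]) : Sylow r G)
    (Sylow.ofCard (Subgroup.zpowers (y : G)) (by rw [Nat.card_zpowers, hy, hf, pow_one]))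
  refine ⟨g, ?_⟩
  have h2 := congrArg (fun T : Sylow r G => (T : Subgroup G)) hg
  simp only [Sylow.coe_ofCard] at h2
  have h3 : g * x * g⁻¹ ∈ Subgroup.zpowers (y : G) := by
    rw [← h2]
    exact Subgroup.smul_mem_pointwise_smul x (MulAut.conj g) _ (by simp)
  exact Subgroup.zpowers_le.2 y.2 h3

include Fr in
theorem card_cent_five (hG : ¬ IsMulCommutative G) (hord : Nat.card G = N0) {x : G} (hx : orderOf x = 5) :
    Nat.card ↥(Subgroup.centralizer ({x} : Set G)) ∣ 26880 := by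
  obtain ⟨g, hg⟩ := Fr.exists_conj_H hord (Or.inl rfl) hx
  obtain ⟨-, -, -, hN⟩ := Fr.five_local hG
    (fun v hv hT => Fr.centralizer_le_normalizer (Fr.duadic hG) (fun w hw => Fr.inO_iff hG hw) hv hT)
    (Q := Subgroup.zpowers (g * x * g⁻¹))
    (by rw [Nat.card_zpowers]; exact ((MulAut.conj g).orderOf_eq x).trans hx) (Subgroup.zpowers_le.2 hg)
  rw [card_cent_conj (isConj_iff.2 ⟨g, rfl⟩ : IsConj x (g * x * g⁻¹)), show 26880 = 2 ^ 8 * 3 * 5 * 7 by norm_num, ← hN]
  refine Subgroup.card_dvd_of_le (le_trans (fun u hu => Subgroup.mem_centralizer_iff.2 fun w hw => ?_)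
    (Subgroup.centralizer_le_normalizer _))
  obtain ⟨i, rfl⟩ := Subgroup.mem_zpowers_iff.1 hw
  exact ((show Commute u _ from Subgroup.mem_centralizer_singleton_iff.1 hu).zpow_right i).eq.symm

include Fr in
theorem card_cent_seven (hG : ¬ IsMulCommutative G) (hord : Nat.card G = N0) {x : G} (hx : orderOf x = 7) :
    Nat.card ↥(Subgroup.centralizer ({x} : Set G)) ∣ 2520 := by
  obtain ⟨g, hg⟩ := Fr.exists_conj_H hord (Or.inr rfl) hx
  obtain ⟨-, -, -, hN⟩ := Fr.seven_local hG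
    (Fr.centralizer_le_normalizer (Fr.duadic hG) (fun w hw => Fr.inO_iff hG hw) (by norm_num) (by decide +kernel))
    (T := Subgroup.zpowers (g * x * g⁻¹))
    (by rw [Nat.card_zpowers]; exact ((MulAut.conj g).orderOf_eq x).trans hx) (Subgroup.zpowers_le.2 hg)
  rw [card_cent_conj (isConj_iff.2 ⟨g, rfl⟩ : IsConj x (g * x * g⁻¹)), show 2520 = 2 ^ 3 * 3 ^ 2 * 5 * 7 by norm_num,
    ← hN]
  refine Subgroup.card_dvd_of_le (le_trans (fun u hu => Subgroup.mem_centralizer_iff.2 fun w hw => ?_)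
    (Subgroup.centralizer_le_normalizer _))
  obtain ⟨i, rfl⟩ := Subgroup.mem_zpowers_iff.1 hw
  exact ((show Commute u _ from Subgroup.mem_centralizer_singleton_iff.1 hu).zpow_right i).eq.symm

include Fr in
/-- The centraliser of an element of order 2, 3, 5 or 7 has order prime to the large primes. -/
theorem small_cent (hJ : Cfsg.IsOfJankoFourTypeWith z P) (hG : ¬ IsMulCommutative G) (hord : Nat.card G = N0) {r : ℕ}
    (hr : r ∈ [2, 3, 5, 7]) {p : ℕ} (hp : p ∈ bigs) {x : G} (hx : orderOf x = r) :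
    ¬ p ∣ Nat.card ↥(Subgroup.centralizer ({x} : Set G)) := by
  obtain ⟨a, b, c, d, e⟩ := no_big_checks
  simp only [List.mem_cons, List.not_mem_nil, or_false] at hr
  intro h
  rcases hr with rfl | rfl | rfl | rfl
  · rcases Fr.card_cent_two hJ hG hx with h' | h'
    · exact a p hp (h.trans h')
    · exact b p hp (h.trans h')
  · exact c p hp (h.trans (Fr.card_cent_three hG hx))
  · exact d p (List.mem_cons_of_mem _ hp) (h.trans (Fr.card_cent_five hG hord hx))
  · exact e p (List.mem_cons_of_mem _ hp) (h.trans (Fr.card_cent_seven hG hord hx))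

end Cfsg.Agent.Spor.JFour.Frame
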